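import Cfsg.Agent.Lib.Presented.BigCount
import Mathlib.SetTheory.Cardinal.Finite
import Mathlib.Algebra.Group.Subgroup.Finite

/-!
Bases of permutation groups: products of orbit lengths bound the order times the pointwise stabilizer;
evaluation of words at single points.
-/
set_option autoImplicit false

namespace CfsgLib.ONOut

open CfsgLib.Presented CfsgLib.Presented.Vec

variable {α : Type*}

/-- The permutations fixing the listed points. -/
def fixer (l : List α) : Subgroup (Equiv.Perm α) where
  carrier := {g | ∀ p ∈ l, g p = p}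
  one_mem' := fun _ _ => rfl
  mul_mem' := fun {a b} ha hb p hp => by rw [Equiv.Perm.mul_apply, hb p hp, ha p hp]
  inv_mem' := fun {a} ha p hp => Equiv.Perm.inv_eq_iff_eq.mpr (ha p hp).symm

theorem mem_fixer {l : List α} {g : Equiv.Perm α} : g ∈ fixer l ↔ ∀ p ∈ l, g p = p := Iff.rfl

/-- Elements moving a point to pairwise different places bound the index of its stabilizer. -/
theorem mul_card_fixer_le [Finite α] {ι : Type*} [Finite ι] (K : Subgroup (Equiv.Perm α)) (p : α)
    (g : ι → Equiv.Perm α) (hg : ∀ i, g i ∈ K) (hinj : Function.Injective fun i => g i p) :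
    Nat.card ι * Nat.card (K ⊓ fixer [p] : Subgroup (Equiv.Perm α)) ≤ Nat.card K := by
  rw [← Nat.card_prod]
  refine Nat.card_le_card_of_injective
    (fun x => (⟨g x.1 * x.2, K.mul_mem (hg _) x.2.2.1⟩ : K)) ?_
  rintro ⟨i, s⟩ ⟨j, t⟩ h
  have h' : g i * (s : Equiv.Perm α) = g j * t := congrArg Subtype.val h
  have hs : (s : Equiv.Perm α) p = p := s.2.2 p (List.mem_cons_self ..)
  have ht : (t : Equiv.Perm α) p = p := t.2.2 p (List.mem_cons_self ..)
  have hij : i = j := by
    apply hinj
    have := congrArg (fun f : Equiv.Perm α => f p) h'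
    simpa [Equiv.Perm.mul_apply, hs, ht] using this
  subst hij
  simp [Subtype.ext (mul_left_cancel h')]

/-- The same with the points listed. -/
theorem prod_mul_card_fixer_le [Finite α] : ∀ (L : List (α × List (Equiv.Perm α))) (K : Subgroup (Equiv.Perm α)),
    (∀ e ∈ L, ∀ g ∈ e.2, g ∈ K) → L.Pairwise (fun a b => ∀ g ∈ b.2, g a.1 = a.1) →
    (∀ e ∈ L, (e.2.map fun g => g e.1).Nodup) →
    (L.map fun e => e.2.length).prod * Nat.card (K ⊓ fixer (L.map Prod.fst) : Subgroup (Equiv.Perm α)) ≤ Nat.card K
  | [], K, _, _, _ => by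
    simp only [List.map_nil, List.prod_nil, one_mul]
    exact Subgroup.card_le_of_le inf_le_left
  | (p, W) :: L, K, hK, hfix, hnd => by
    rw [List.pairwise_cons] at hfix
    have h1 := prod_mul_card_fixer_le L (K ⊓ fixer [p])
      (fun e he g hg => ⟨hK e (List.mem_cons_of_mem _ he) g hg, fun q hq => by
        rw [List.mem_singleton] at hq
        subst hq
        exact hfix.1 e he g hg⟩) hfix.2 (fun e he => hnd e (List.mem_cons_of_mem _ he))
    have h2 := mul_card_fixer_le K p (fun i : Fin W.length => W[i.1])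
      (fun i => hK _ (List.mem_cons_self ..) _ (List.getElem_mem _)) (fun i j hij => by
        have hn := hnd _ (List.mem_cons_self ..)
        have hi : i.1 < (W.map fun g => g p).length := by simp
        have hj : j.1 < (W.map fun g => g p).length := by simp
        exact Fin.ext ((hn.getElem_inj_iff (hi := hi) (hj := hj)).1 (by simpa using hij)))
    rw [Nat.card_fin] at h2
    have he : (K ⊓ fixer (((p, W) :: L).map Prod.fst) : Subgroup (Equiv.Perm α)) =
        K ⊓ fixer [p] ⊓ fixer (L.map Prod.fst) := by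
      ext g
      simp [mem_fixer, and_assoc]
    rw [he, List.map_cons, List.prod_cons, mul_assoc]
    exact (Nat.mul_le_mul_left _ h1).trans h2

/-- An orbit read from a bit set bounds the index of a stabilizer. -/
theorem orbit_mul_card_fixer_le {G : Type*} [Group G] {R : Rep} (hR : R.valid = true) {ws : List (List ℕ)}
    {i rounds O n : ℕ} (hok : orbitOK R ws i rounds O = true) (hn : Nat.beq (bitCount O R.N) n = true)
    {ev : ℕ → G} (φ : G →* Equiv.Perm (Fin R.N)) (hφ : ∀ x, x < R.A.eps → φ (ev x) = R.perm hR x)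
    (hi : i < R.N) (K : Subgroup (Equiv.Perm (Fin R.N))) (hK : ∀ w ∈ ws, φ (evW ev w) ∈ K) :
    n * Nat.card (K ⊓ fixer [(⟨i, hi⟩ : Fin R.N)] : Subgroup (Equiv.Perm (Fin R.N))) ≤ Nat.card K := by
  classical
  let S := (Finset.univ : Finset (Fin R.N)).filter fun q : Fin R.N => O.testBit (q : ℕ) = true
  have hS : Nat.card S = n := by
    rw [Nat.card_eq_fintype_card, Fintype.card_coe, ← Nat.eq_of_beq_eq_true hn, bitCount_eq]
    refine Finset.card_bij (fun q _ => (q : ℕ)) (fun q hq => ?_) (fun p _ q _ h => Fin.ext h) (fun k hk => ?_)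
    · simp only [S, Finset.mem_filter, Finset.mem_univ, true_and] at hq
      simp only [Finset.mem_filter, Finset.mem_range]
      exact ⟨q.2, hq⟩
    · simp only [Finset.mem_filter, Finset.mem_range] at hk
      exact ⟨⟨k, hk.1⟩, by simp [S, hk.2], rfl⟩
  have horb := orbit_eq_of_ok hR hok φ hφ
    (H := Subgroup.closure ((fun w => evW ev w) '' {w | w ∈ ws})) rfl hi
  have hex : ∀ q : S, ∃ g ∈ K, g ⟨i, hi⟩ = q.1 := by
    rintro ⟨q, hq⟩
    simp only [S, Finset.mem_filter, Finset.mem_univ, true_and] at hq
    obtain ⟨h, hh, he⟩ := (horb q).2 hq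
    refine ⟨φ h, ?_, he⟩
    have hle : Subgroup.closure ((fun w => evW ev w) '' {w | w ∈ ws}) ≤ K.comap φ := by
      rw [Subgroup.closure_le]
      rintro _ ⟨w, hw, rfl⟩
      exact hK w hw
    exact hle hh
  choose g hg hgi using hex
  have := mul_card_fixer_le K (⟨i, hi⟩ : Fin R.N) g hg (fun p q h => Subtype.ext (by
    simp only [hgi] at h; exact h))
  rwa [hS] at this

/-- Where a stage sends a point. -/
noncomputable def stageAt (s : Stage) (i : ℕ) : ℕ :=
  Stage.rec (motive := fun _ => ℕ) (fun d m =>
    cond (m.testBit i) (Nat.add i d) (cond (Nat.ble d i && m.testBit (Nat.sub i d)) (Nat.sub i d) i)) s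

theorem stageAt_eq {s : Stage} (h : s.ok = true) (i : ℕ) : stageAt s i = s.perm i := by
  have hp : s.perm i = s.swp i := rfl
  rw [hp, Stage.swp, Stage.act_eq h, Stage.act_eq h]
  cases s with
  | mk d m =>
    simp only [stageAt, Nat.add_eq, Nat.sub_eq]
    cases hm : m.testBit i
    · by_cases hd : d ≤ i
      · cases hm2 : m.testBit (i - d) <;> simp [Nat.ble_eq.mpr hd, hd, hm2]
      · have : Nat.ble d i = false := by
          rw [← Bool.not_eq_true]
          exact fun hb => hd (Nat.ble_eq.mp hb)
        simp [this, hd]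
    · simp

/-- Where a network sends a point. -/
noncomputable def netAt (l : List Stage) (i : ℕ) : ℕ :=
  List.rec (motive := fun _ => ℕ) i (fun s _ ih => force ih fun j => stageAt s j) l

theorem netAt_eq : ∀ {l : List Stage}, netOk l = true → ∀ i, netAt l i = netPerm l i
  | [], _, _ => rfl
  | s :: l, h, i => by
    simp only [netOk, List.all_cons, Bool.and_eq_true] at h
    show (force (netAt l i) fun j => stageAt s j) = _
    rw [force_eq, stageAt_eq h.1, netAt_eq (l := l) h.2]
    rfl

/-- Where a word sends a point. -/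
noncomputable def wordAt (R : Rep) (w : List ℕ) (i : ℕ) : ℕ :=
  List.rec (motive := fun _ => ℕ) i (fun x _ ih => force ih fun j => netAt (R.net x) j) w

theorem wordAt_eq {R : Rep} (h : R.valid = true) : ∀ (w : List ℕ) (i : Fin R.N),
    wordAt R w i = (evW (R.perm h) w i : ℕ)
  | [], _ => rfl
  | x :: w, i => by
    show (force (wordAt R w i) fun j => netAt (R.net x) j) = _
    rw [force_eq, wordAt_eq h w i, evW_cons, Equiv.Perm.mul_apply, Rep.perm_val,
      netAt_eq ((Rep.valid_spec h).2.2.1 x)]

end CfsgLib.ONOut
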