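import Mathlib.Logic.Basic
import Mathlib.Data.Nat.Notation

/-! Tables for elements of orders 19 and 6 in the presented group of O'Nan. -/

set_option autoImplicit false
set_option maxRecDepth 20000

namespace CfsgLib.ONOut

/-- A word for an element of order 19. -/
def xWord : List ℕ := [6, 5, 4, 3, 2, 1]
/-- A word for its inverse. -/
def xInv : List ℕ := [1, 2, 3, 4, 5, 6]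
/-- A word for an element of order 6 normalizing it. -/
def bWord : List ℕ := [4, 3, 4, 5, 3, 4, 2, 3, 4, 5, 6, 3, 4, 2, 3, 4, 5, 2, 3, 4, 3, 4, 2]
/-- A word for its inverse. -/
def bInv : List ℕ := [2, 4, 3, 4, 3, 2, 5, 4, 3, 2, 4, 3, 6, 5, 4, 3, 2, 4, 3, 5, 4, 3, 4]
/-- The third generator. -/
def cWord : List ℕ := [2, 3, 4, 7, 3, 0, 2, 3, 0, 5, 4, 3, 2, 0, 4, 5, 3, 4, 2, 3, 7, 5, 4, 2, 7, 3, 2, 1]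
/-- A word for its inverse. -/
def cInv : List ℕ := [1, 2, 3, 0, 2, 4, 5, 0, 3, 2, 4, 3, 5, 4, 7, 2, 3, 4, 5, 7, 3, 2, 7, 3, 0, 4, 3, 2]
/-- The second survivor. -/
def cTwo : List ℕ := [1, 2, 3, 0, 2, 4, 3, 2, 5, 7, 2, 4, 0, 3, 2, 0, 5, 4, 3, 2, 0, 4, 5, 3, 7, 4, 3, 2]
/-- The centralizer of the element of order 6 in the subgroup. -/
def zWords : List (List ℕ) := [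
    [],
    [2, 3, 4, 6, 5, 4, 3, 4, 3, 2, 5, 3, 6, 3, 3, 3, 1, 1, 3, 5, 5, 4, 4, 4, 5, 3, 4, 2, 3, 2, 5, 5, 6, 3, 4, 6, 3, 5, 1, 4, 3],
    [2, 3, 4, 5, 4, 3, 2, 1, 4, 3, 5, 4, 2, 2, 5, 5, 3, 5, 4, 2, 1, 4, 2, 3, 4, 5, 1, 6, 1, 3, 2, 1, 3, 5],
    [2, 1, 3, 2, 6, 5, 4, 3, 2, 4, 3, 2, 5, 3, 4, 3, 4, 3, 2, 5, 2, 2, 3, 2, 4, 3, 2, 5],
    [5, 4, 3, 2, 4, 5, 6, 5, 4, 3, 4, 5, 6, 2, 6, 3, 4, 4, 1, 4, 2, 5, 1, 1, 5, 6, 1, 5, 3, 4, 3, 2, 5, 1, 4],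
    [1, 2, 1, 4, 3, 4, 5, 4, 3, 2, 1, 6, 5, 4, 2, 2, 5, 2, 4, 6, 3, 2, 3, 1, 1, 4, 3, 5, 4, 2, 3, 1, 5, 4, 4, 6, 6, 6, 4, 5, 1],
    [1, 2, 1, 3, 5, 4, 3, 2, 1, 4, 3, 2, 5, 4, 3, 4, 3, 2, 4, 4, 5, 4, 6, 3, 1, 2, 6, 1, 4, 2, 5, 1, 1, 6, 2, 5, 3, 4, 2, 2],
    [1, 3, 2, 4, 3, 4, 3, 2, 5, 4, 3, 2, 4, 3, 6, 2, 1, 5, 3, 4, 6, 5, 4, 4, 1, 1, 3, 4, 2, 3, 6, 4, 2, 3, 4],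
    [1, 4, 3, 2, 1, 5, 4, 6, 5, 4, 3, 2, 4, 3, 5, 6, 4, 5, 2, 3, 4, 6, 1, 2, 1, 3, 4, 5, 5, 5, 4, 3, 3, 2, 1, 4, 5, 5],
    [1, 5, 4, 3, 2, 1, 4, 3, 2, 5, 4, 3, 2, 6, 4, 5, 4, 3, 2, 1, 6, 6, 6, 4, 1, 5, 3, 5, 5, 2, 4, 1, 6, 2, 3, 3, 3, 4, 6, 5],
    [4, 3, 2, 4, 3, 5, 4, 6, 5, 4, 3, 2, 1, 1, 4, 5, 5, 1, 3, 4, 5, 3, 2, 6, 4, 3, 4, 5, 1, 2, 4, 3, 2, 1, 3, 4, 6, 5, 1],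
    [2, 3, 4, 6, 5, 4, 3, 4, 3, 2, 5, 3, 6, 3, 3, 3, 1, 1, 3, 5, 5, 4, 4, 4, 5, 3, 4, 2, 3, 2, 5, 5, 6, 3, 4, 6, 3, 5, 1, 4, 3, 2, 1, 3, 2, 6, 5, 4, 3, 2, 4, 3, 2, 5, 3, 4, 3, 4, 3, 2, 5, 2, 2, 3, 2, 4, 3, 2, 5]]
/-- Representatives for its cosets in the full centralizer. -/
def coWords : List (List ℕ) := [
    [],
    [1, 3, 2, 5, 4, 7, 2, 5, 0, 3, 2, 4, 5, 7, 3, 4, 0, 2, 3, 4, 5, 4, 2, 3, 1, 2, 0, 1, 2],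
    [1, 2, 4, 3, 6, 5, 4, 7, 5, 4, 0, 3, 4, 5, 7, 2, 3, 4, 5, 6, 3, 4, 5, 2],
    [2, 3, 7, 5, 7, 2, 4, 3, 5, 4, 3, 2, 4, 3, 4, 5, 4, 3, 0, 4, 0, 5, 2, 3, 2, 7, 1, 2],
    [1, 3, 4, 3, 2, 1, 4, 3, 5, 4, 3, 2, 6, 5, 4, 0, 5, 0, 3, 4, 2, 3, 4, 5, 0, 4, 2, 1],
    [0, 2, 3, 4, 7, 2, 3, 2, 4, 5, 4, 0, 2, 3, 4, 2, 3, 4, 5, 4, 2, 7, 5, 2, 3, 0, 1]]
/-- The full centralizer of the element of order 6. -/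
def lcWords : List (List ℕ) := [
    [],
    [2, 4, 3, 4, 3, 2, 5, 4, 3, 2, 6, 4, 5, 3, 4, 3, 4, 5, 2, 3, 4, 3, 4],
    [2, 3, 4, 5, 4, 3, 2, 4, 3, 4, 5, 2, 3, 4, 3, 4, 5, 6, 2, 3, 1, 2],
    [2, 1, 3, 2, 6, 5, 4, 3, 4, 5, 3, 4, 2, 3, 4, 2, 3, 4, 5, 4, 3, 2],
    [3, 4, 5, 4, 3, 2, 1, 4, 3, 2, 1, 4, 5, 6, 4, 3, 4, 5, 2, 3, 4, 3, 4, 5, 6, 2, 1],
    [1, 2, 1, 5, 4, 3, 4, 3, 5, 4, 3, 2, 4, 5, 3, 4, 3, 4, 5, 2, 3, 4, 3, 4, 5, 4, 3],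
    [2, 1, 3, 2, 4, 0, 3, 2, 5, 4, 3, 0, 2, 4, 5, 4, 3, 7, 4, 5, 2, 7, 4, 2, 3, 2, 1],
    [4, 3, 2, 4, 3, 4, 3, 5, 4, 3, 2, 1, 4, 3, 4, 2, 3, 4, 5, 4, 3, 4, 2, 3, 4],
    [1, 2, 3, 2, 4, 0, 2, 5, 4, 0, 3, 2, 4, 5, 4, 7, 3, 4, 5, 2, 3, 7, 4, 2, 3, 1, 2],
    [2, 1, 3, 4, 7, 3, 5, 4, 0, 5, 0, 2, 3, 4, 0, 5, 2, 7, 3, 4, 5, 2, 3, 0, 4, 3, 2],
    [4, 3, 4, 3, 2, 5, 4, 3, 4, 5, 6, 3, 4, 2, 3, 4, 5, 2, 3, 4, 3, 4, 2],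
    [1, 2, 3, 2, 4, 7, 2, 3, 5, 0, 2, 4, 5, 3, 4, 1, 2, 7, 5, 3, 2, 0, 4, 5, 1],
    [1, 3, 2, 5, 4, 7, 2, 5, 0, 3, 2, 4, 5, 7, 3, 4, 0, 2, 3, 4, 5, 4, 2, 3, 1, 2, 0, 1, 2],
    [7, 5, 4, 3, 0, 2, 4, 5, 0, 4, 5, 3, 4, 2, 3, 2, 0, 4, 5, 4, 2, 3],
    [0, 4, 5, 4, 3, 0, 2, 3, 4, 3, 2, 5, 7, 4, 5, 3, 7, 2, 3, 7, 4, 5, 3, 4, 7, 2, 3, 1],
    [3, 5, 4, 3, 0, 5, 0, 2, 4, 3, 4, 5, 4, 3, 4, 0, 2, 3, 4, 5, 0, 3, 4, 5, 1],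
    [2, 3, 4, 7, 3, 0, 2, 3, 0, 5, 4, 3, 2, 0, 4, 5, 3, 4, 2, 3, 7, 5, 4, 2, 7, 3, 2, 1],
    [3, 7, 4, 3, 5, 4, 3, 4, 0, 2, 3, 5, 4, 0, 2, 3, 2, 0, 5, 4, 3, 2, 0, 5, 3, 4, 3],
    [6, 5, 7, 2, 5, 4, 3, 4, 0, 2, 3, 5, 0, 4, 5, 2, 3, 7, 4, 5, 2, 0, 3, 0, 2, 0, 2],
    [2, 7, 2, 3, 2, 4, 5, 0, 2, 3, 4, 7, 3, 5, 4, 2, 0, 5, 3, 7, 4, 5, 2, 3, 0, 4, 3],
    [4, 5, 0, 3, 2, 5, 4, 3, 7, 2, 5, 4, 3, 4, 5, 7, 3, 4, 2, 7, 3, 4, 5, 4, 3, 2, 7, 2],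
    [1, 2, 1, 3, 2, 5, 4, 3, 2, 4, 0, 5, 4, 3, 4, 2, 7, 5, 3, 0, 4, 5, 3, 7, 2, 1],
    [1, 6, 5, 7, 4, 3, 2, 5, 4, 3, 7, 2, 4, 3, 0, 5, 0, 4, 2, 7, 3, 4, 5, 0, 5, 2, 3, 1],
    [3, 7, 2, 3, 4, 5, 4, 3, 4, 0, 2, 0, 5, 4, 3, 0, 4, 2, 7, 5, 3, 4, 2, 3, 0],
    [1, 2, 4, 3, 6, 5, 4, 7, 5, 4, 0, 3, 4, 5, 7, 2, 3, 4, 5, 6, 3, 4, 5, 2],
    [1, 2, 4, 7, 5, 4, 3, 2, 1, 4, 3, 2, 7, 5, 7, 4, 5, 6, 3, 4, 5, 3, 4, 2, 3, 4, 3, 1],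
    [1, 2, 3, 5, 4, 7, 5, 4, 3, 2, 7, 4, 5, 3, 4, 3, 7, 5, 2, 1],
    [1, 2, 4, 3, 2, 7, 5, 7, 4, 3, 7, 5, 4, 2, 3, 4, 5, 7, 3, 4, 5, 2, 7, 1],
    [1, 2, 0, 2, 4, 5, 7, 3, 2, 4, 5, 7, 4, 3, 0, 4, 5, 2, 3, 0, 4, 2, 7, 3, 4, 5, 4, 3],
    [1, 3, 2, 4, 5, 7, 2, 3, 2, 4, 3, 4, 7, 5, 4, 3, 2, 0, 5, 3, 4, 7, 5, 0, 1],
    [2, 3, 6, 5, 4, 3, 7, 2, 0, 3, 4, 3, 2, 5, 4, 3, 2, 0, 4, 5, 3, 2, 0, 4, 5, 3, 1],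
    [2, 3, 5, 0, 2, 3, 5, 4, 3, 7, 2, 7, 3, 7, 5, 4, 3, 4, 5, 4, 2, 3, 4, 3, 2, 0],
    [3, 2, 7, 5, 0, 4, 3, 5, 4, 3, 0, 2, 4, 3, 4, 5, 4, 3, 4, 3, 2, 0, 2, 3, 4, 5, 7, 1],
    [1, 2, 6, 5, 4, 3, 4, 5, 0, 2, 7, 3, 2, 4, 3, 7, 5, 4, 3, 2, 7, 5, 4, 3, 4, 2, 0, 2],
    [1, 4, 6, 5, 7, 3, 2, 1, 4, 3, 2, 4, 3, 5, 7, 4, 5, 2, 3, 4, 2, 3, 1, 2, 7, 5],
    [3, 6, 5, 7, 2, 3, 4, 3, 2, 5, 0, 2, 4, 3, 4, 5, 4, 0, 2, 3, 4, 0, 2, 3, 7, 5, 2],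
    [2, 3, 7, 5, 7, 2, 4, 3, 5, 4, 3, 2, 4, 3, 4, 5, 4, 3, 0, 4, 0, 5, 2, 3, 2, 7, 1, 2],
    [1, 2, 0, 3, 5, 4, 7, 3, 5, 0, 2, 4, 3, 4, 5, 7, 4, 2, 3, 4, 5, 2, 3, 1, 2, 1],
    [3, 4, 7, 3, 2, 5, 4, 0, 3, 5, 7, 2, 4, 5, 3, 0, 4, 3, 2, 7, 5, 4, 2, 3, 2, 0, 2],
    [1, 3, 2, 5, 7, 5, 4, 3, 0, 2, 4, 3, 7, 5, 7, 4, 2, 0, 3, 4, 5, 2, 3, 4, 0, 5, 6, 1],
    [5, 4, 3, 4, 5, 7, 2, 3, 4, 5, 7, 3, 7, 2, 3, 4, 5, 7, 2, 3, 4, 2, 7, 3, 2, 0],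
    [2, 1, 7, 2, 1, 3, 2, 4, 5, 4, 3, 2, 7, 4, 3, 0, 5, 4, 2, 3, 7, 5, 2, 0, 4, 5, 2, 3, 1],
    [1, 2, 3, 0, 2, 4, 3, 2, 5, 7, 2, 4, 0, 3, 2, 0, 5, 4, 3, 2, 0, 4, 5, 3, 7, 4, 3, 2],
    [0, 2, 5, 7, 4, 3, 2, 7, 5, 4, 7, 3, 2, 4, 5, 4, 3, 4, 0, 5, 2, 7, 4, 2, 3, 2, 0, 1],
    [7, 3, 2, 4, 3, 4, 5, 0, 2, 4, 5, 7, 3, 4, 5, 7, 2, 7, 3, 4, 5, 3, 2, 0, 3],
    [3, 2, 4, 5, 4, 7, 2, 3, 2, 4, 5, 3, 4, 7, 5, 4, 2, 7, 3, 4, 5, 0],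
    [1, 5, 4, 3, 7, 5, 4, 3, 2, 7, 4, 3, 4, 5, 4, 3, 4, 2, 7, 5, 7, 3, 4, 5, 3],
    [4, 3, 7, 4, 0, 5, 4, 3, 2, 4, 7, 3, 5, 0, 4, 2, 3, 4, 5, 1, 2, 0, 4, 2, 3, 2, 7, 1],
    [1, 3, 4, 3, 2, 1, 4, 3, 5, 4, 3, 2, 6, 5, 4, 0, 5, 0, 3, 4, 2, 3, 4, 5, 0, 4, 2, 1],
    [2, 3, 4, 5, 7, 5, 4, 3, 0, 4, 5, 4, 0, 2, 3, 4, 5, 4, 2, 3, 0, 4, 2, 1],
    [2, 1, 0, 2, 4, 5, 4, 3, 2, 4, 3, 7, 2, 4, 0, 5, 3, 4, 3, 4, 5, 2, 7, 3, 4, 5, 3, 2],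
    [1, 0, 2, 5, 4, 3, 0, 5, 4, 3, 4, 5, 2, 0, 3, 4, 0, 5, 0, 2, 3, 4, 2, 1],
    [3, 4, 5, 4, 3, 0, 2, 4, 7, 3, 2, 4, 5, 4, 7, 5, 3, 0, 4, 2, 3, 2, 7, 5, 2, 0, 4, 2],
    [2, 5, 0, 3, 2, 7, 4, 3, 2, 7, 4, 5, 4, 3, 4, 2, 7, 5, 2, 3, 4, 3, 2, 0, 5, 6, 3],
    [5, 0, 2, 1, 3, 2, 4, 3, 2, 5, 4, 0, 5, 3, 4, 2, 3, 4, 1, 2, 3, 0, 5, 6, 4, 1],
    [1, 0, 5, 4, 3, 2, 7, 2, 3, 4, 3, 2, 4, 5, 4, 3, 4, 2, 3, 0, 4, 5, 4, 7, 5, 0, 2, 3],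
    [7, 2, 3, 4, 3, 2, 4, 5, 4, 3, 4, 5, 0, 3, 0, 2, 0, 3, 4, 5, 3, 2, 7, 5, 3, 2],
    [1, 2, 5, 4, 3, 4, 3, 2, 7, 5, 7, 4, 3, 4, 5, 4, 7, 3, 2, 1],
    [1, 3, 5, 4, 7, 2, 3, 5, 4, 7, 2, 3, 2, 4, 5, 3, 4, 3, 7, 2, 0, 3, 4, 5, 6, 3, 2],
    [1, 7, 5, 0, 4, 3, 5, 7, 2, 3, 4, 5, 0, 4, 3, 4, 2, 3, 2, 0, 5, 4, 2, 3, 1],
    [0, 2, 3, 4, 7, 2, 3, 2, 4, 5, 4, 0, 2, 3, 4, 2, 3, 4, 5, 4, 2, 7, 5, 2, 3, 0, 1],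
    [1, 7, 3, 2, 5, 0, 2, 4, 5, 4, 3, 2, 4, 3, 2, 7, 4, 5, 4, 2, 3, 2, 0, 4, 3, 2, 7],
    [2, 4, 3, 7, 2, 4, 5, 0, 2, 3, 2, 4, 5, 7, 3, 4, 2, 0, 3, 4, 5, 4, 7, 5, 2, 3, 2],
    [4, 0, 2, 7, 3, 4, 7, 5, 7, 2, 4, 3, 4, 5, 0, 3, 4, 2, 3, 7, 2, 0, 4, 1],
    [2, 1, 6, 5, 7, 4, 3, 5, 4, 3, 2, 7, 5, 6, 3, 4, 5, 0, 3, 4, 3, 2],
    [1, 3, 5, 4, 0, 3, 2, 5, 4, 3, 7, 2, 5, 0, 4, 5, 3, 0, 4, 5, 2, 3, 4, 0, 5, 1, 2, 7],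
    [3, 4, 5, 7, 4, 3, 7, 2, 3, 4, 3, 2, 5, 4, 0, 3, 4, 0, 5, 4, 3, 2, 0, 5, 3, 4, 2],
    [1, 4, 5, 7, 2, 3, 4, 0, 3, 2, 5, 6, 4, 5, 0, 4, 3, 4, 5, 2, 0, 3, 4, 3],
    [3, 4, 3, 7, 2, 5, 4, 3, 4, 7, 5, 6, 4, 5, 2, 3, 7, 4, 3, 2, 0, 5, 4, 1],
    [2, 3, 2, 5, 0, 4, 5, 4, 3, 7, 2, 4, 3, 0, 5, 4, 2, 3, 2, 7, 5, 4, 2, 0, 3, 4, 2],
    [2, 4, 3, 5, 7, 2, 3, 4, 5, 7, 4, 3, 7, 4, 5, 2, 3, 4, 3, 2, 0, 3, 4, 0, 5, 4, 3],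
    [0, 2, 1, 5, 7, 4, 3, 2, 5, 4, 7, 3, 5, 4, 7, 5, 2, 0, 3, 4, 5, 2, 3, 7, 4, 5, 3, 1]]
/-- Positions of the products. -/
def lcIdx : List (List ℕ) := [[0, 1, 2, 3, 4, 5, 6, 7, 8, 9, 10, 11], [12, 13, 14, 15, 16, 17, 18, 19, 20, 21, 22, 23], [24, 25, 26, 27, 28, 29, 30, 31, 32, 33, 34, 35], [36, 37, 38, 39, 40, 41, 42, 43, 44, 45, 46, 47], [48, 49, 50, 51, 52, 53, 54, 55, 56, 57, 58, 59], [60, 61, 62, 63, 64, 65, 66, 67, 68, 69, 70, 71]]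
/-- Points met by the centralizer. -/
def goodPts : List ℕ := [0, 96000, 6969, 119738, 88204, 95903]
/-- Points not met by it, with the reason. -/
def badRows : List (ℕ × List ℕ × List ℕ × List ℕ × ℕ) := [
  (25579, [7, 3, 5, 0, 4, 3, 2, 5, 4, 3, 4, 5], [5, 4, 3, 4, 5, 2, 3, 4, 7, 5, 3, 0], [3, 2, 1, 4, 3, 6, 5, 4, 2, 3, 4, 5, 1, 2, 3, 4, 3, 4, 5, 6, 4, 2, 3, 4, 5, 1], 19),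
  (52425, [7, 5, 4, 3, 2, 4, 3, 2, 7, 2, 7, 5, 4], [4, 5, 0, 2, 0, 2, 3, 4, 2, 3, 4, 5, 0], [2, 1, 4, 3, 2, 1, 4, 5, 6, 4, 3, 4, 2, 3, 4, 5, 4, 3, 4, 2, 3, 4, 5, 6, 4, 3, 2, 1], 11),
  (114303, [7, 5, 4, 3, 2, 1, 4, 7, 5, 0, 4, 3, 2, 4, 5], [5, 4, 2, 3, 4, 7, 5, 0, 4, 1, 2, 3, 4, 5, 0], [6, 5, 4, 2, 3, 4, 1, 2, 3, 4, 5, 4, 2, 3, 4, 1, 2, 3, 4, 2], 40)]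
/-- Orbits of the element of order 6 on the objects. -/
def bOrb : List ℕ := [0x1a57d970080, 0x34afb2e01, 0x2d251634982, 0x8cc957b003, 0x4439e3dd84, 0x4c02511c85, 0x13e5a935906, 0x14163677107, 0x21cf1eec208, 0x201288e4289, 0x2294e3c130a, 0x693056928b, 0x30dd964170c, 0x982b49458d, 0x2cd084df70e, 0x1d84110e78f, 0x170cc376590, 0x264abd80191, 0x22390a26012, 0x15a4a2c693, 0x38f04c2a294, 0xb9f78f7195, 0xd9dc41d416, 0xfbc7b8ca97, 0x103e82ced98, 0x2c3ad198f19, 0x2fd69191a9a, 0xee20ea0b1b, 0x299ca67299c, 0x31075058d9d, 0xcd875a331e, 0x1e3dc654b9f, 0x1f41676cc20, 0x11b8631b4a1, 0x16aa934b522, 0x1c318da50a3, 0x37ed7f9e3a4, 0x58d260ad25, 0x54529c7826, 0x32d49ac8327, 0xb1b3b883a8, 0x15a956a55a9, 0x24d2d4896aa, 0x14ab52ad4ab,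 0x272f61475ac, 0x1549a5a912d, 0x661bb2c82e, 0x1851d6b272f, 0x28eb59397b0, 0x2369428dc31, 0x327cb526b2, 0x2d9840fa0b3, 0x2becb804034, 0xd5fad23235, 0x2ab6aadaab6, 0x370eb342137, 0x18c6d2851b8, 0x289804a239, 0x34663c66c3a, 0x208873c7bb, 0x1ee32a5cfbc, 0x31952e7de3d, 0x20b3b66103e, 0x33c749bf6bf, 0x94472144c0, 0x19db3081f41, 0x1bee1d66842, 0x278f7610443, 0x1c851300944, 0xa71e098545, 0x34a146e18c6, 0x126fdaff3c7, 0x3235357eb48, 0x296a44b5549, 0x2f60064664a, 0x82e1986ecb, 0x255ec00c8cc, 0x19064f96a4d, 0x17b0a3ad64e, 0x7bb08221cf, 0x2137dc3acd0, 0x35ac9cbd851, 0x35225aaa4d2, 0xe53394ce53, 0x26b20c9f2d4, 0x1b556d55b55, 0x24646a6afd6, 0x365c0201a57, 0x1d68cc78cd8, 0x28426fb8759, 0x128b1a4c15a, 0xc207d059db, 0x80695f65c,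 0x25905c330dd, 0x3003233255e, 0x2b48c8d4d5f, 0x191992af60, 0x2ecb20b8661, 0x3a82c6cee2, 0xa973ef1ee3, 0x1a9abf5a464, 0x2a4d64193e5, 0xf19b0eb466, 0x23a4dfb5fe7, 0x331e3361d68, 0x10a370c6369, 0x112d552696a, 0x164e5ec28eb, 0x2e0100d2bec, 0x1fe78e937ed, 0x759a109bee, 0x36bfcf1d26f, 0x130a8a538f0, 0x38261514a71]
/-- Images of two objects under the centralizer in the subgroup. -/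
def zImgs : List (ℕ × ℕ) := [(10, 33), (69, 35), (21, 62), (61, 24), (23, 65), (60, 91), (20, 56), (113, 49), (112, 70), (31, 51), (38, 105), (99, 32)]
/-- The first object. -/
def objP : ℕ := 10
/-- The second object. -/
def objQ : ℕ := 33
/-- Images of the letters under the outer automorphism. -/
def imgWords : List (List ℕ) := [
    [1, 2, 3, 2, 5, 4, 0, 2, 3, 2, 5, 7, 4, 3, 5, 4, 3, 2, 7, 5, 3, 0, 4, 2, 3, 2, 0, 2],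
    [2, 4, 5, 4, 3, 4, 7, 2, 3, 5, 7, 4, 7, 3, 4, 2, 3, 4, 5, 0, 4, 3, 4, 5, 4, 2],
    [2, 1, 4, 3, 4, 5, 7, 2, 4, 5, 4, 3, 4, 2, 3, 4, 5, 2, 7, 4, 5, 3, 4, 2],
    [2, 1, 3, 4, 3, 2, 5, 4, 3, 0, 2, 3, 4, 7, 5, 3, 4, 3, 4, 5, 7, 4, 5, 4, 2, 3, 4, 3],
    [3, 0, 2, 5, 4, 7, 3, 2, 4, 0, 3, 5, 4, 7, 5, 3, 4, 3, 4, 2, 3, 4, 7, 5, 4, 3, 2],
    [3, 2, 5, 4, 3, 0, 2, 3, 4, 3, 5, 4, 0, 3, 0, 4, 5, 2, 7, 3, 4, 5, 2, 3],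
    [2, 3, 2, 5, 4, 3, 7, 2, 3, 4, 3, 5, 4, 0, 3, 0, 4, 5, 2, 0, 3, 4, 5, 2, 3, 2],
    [2, 7, 2, 3, 2, 4, 7, 3, 5, 0, 2, 3, 4, 5, 3, 4, 0, 5, 2, 3, 2, 7, 4, 5, 2, 3, 2, 1]]
/-- The letters as words in the three generators and their inverses. -/
def genWords : List (List ℕ) := [[3, 1, 5, 0, 5, 1, 1, 4, 0, 5, 1, 4, 0, 0, 5, 1, 5, 0, 0], [0, 4, 0, 0, 3, 4, 0, 4, 0, 4, 0, 0, 0, 4, 2, 0, 4, 1, 3], [4, 0, 0, 3, 4, 0, 4, 0, 4, 0, 0, 0, 4, 2, 0, 4, 1, 3, 0], [1, 1, 2, 0, 5, 1, 3, 5, 1, 1, 1, 5, 1, 5, 1, 5, 2, 1, 1, 5, 0], [0, 4, 1, 1, 3, 0, 5, 0, 0, 4, 0, 2, 0, 5, 0, 0, 4, 0, 2, 0, 5, 1], [4, 1, 1, 3, 0, 5, 0, 0, 4, 0, 2, 0, 5, 0, 0, 4, 0, 2, 0, 5], [1, 4, 1, 1, 3, 0, 5, 0, 0, 4, 0, 2, 0, 5, 0, 0, 4, 0, 2, 0,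 5, 0]]
/-- A relation and a base point refuting each candidate. -/
def witness : List (ℕ × ℕ) := [(1, 1), (0, 1), (0, 1), (0, 1), (0, 1), (0, 1), (1, 1), (0, 1), (1, 1), (0, 1), (0, 1), (0, 1), (0, 1), (0, 1), (0, 1), (0, 1), (9, 0), (1, 0), (0, 1), (0, 1), (0, 1), (0, 1), (0, 1), (1, 0), (0, 0), (0, 0), (0, 0), (0, 0), (0, 0), (0, 0), (0, 0), (0, 0), (0, 0), (0, 0), (0, 0), (0, 0), (1, 0), (0, 1), (0, 1), (0, 1), (0, 1), (0, 1), (9, 0), (0, 1), (1, 0), (0, 1), (0, 1), (0, 1), (0, 0), (0, 0), (0, 0), (0, 0), (0, 0), (0, 0), (0, 0), (0, 0), (0, 0), (0, 0), (0, 0), (0, 0), (0, 0), (0, 0), (0, 0), (0, 0), (0, 0), (0, 0), (0, 0), (0, 0), (0, 0), (0, 0), (0, 0), (0, 0), (1, 1), (0, 1), (0, 1), (0, 1), (0,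 1), (0, 1), (1, 1), (0, 1), (1, 1), (0, 1), (0, 1), (0, 1), (0, 1), (0, 1), (0, 1), (0, 1), (1, 0), (1, 0), (0, 1), (0, 1), (0, 1), (0, 1), (0, 1), (1, 0), (0, 0), (0, 0), (0, 0), (0, 0), (0, 0), (0, 0), (0, 0), (0, 0), (0, 0), (0, 0), (0, 0), (0, 0), (1, 0), (0, 1), (0, 1), (0, 1), (0, 1), (0, 1), (1, 0), (0, 1), (1, 0), (0, 1), (0, 1), (0, 1), (0, 0), (0, 0), (0, 0), (0, 0), (0, 0), (0, 0), (0, 0), (0, 0), (0, 0), (0, 0), (0, 0), (0, 0), (0, 0), (0, 0), (0, 0), (0, 0), (0, 0), (0, 0), (0, 0), (0, 0), (0, 0), (0, 0), (0, 0), (0, 0), (1, 1), (0, 1), (0, 1), (0, 1), (0, 1), (0, 1), (1, 1), (0, 1), (1, 1), (0, 1), (0, 1), (0, 1), (0, 1), (0, 1), (0, 1), (0, 1), (2, 0), (1, 0), (0, 1), (0, 1), (0, 1), (0,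 1), (0, 1), (1, 0), (0, 0), (0, 0), (0, 0), (0, 0), (0, 0), (0, 0), (0, 0), (0, 0), (0, 0), (0, 0), (0, 0), (0, 0), (1, 0), (0, 1), (0, 1), (0, 1), (0, 1), (0, 1), (2, 0), (0, 1), (1, 0), (0, 1), (0, 1), (0, 1), (0, 0), (0, 0), (0, 0), (0, 0), (0, 0), (0, 0), (0, 0), (0, 0), (0, 0), (0, 0), (0, 0), (0, 0), (0, 0), (0, 0), (0, 0), (0, 0), (0, 0), (0, 0), (0, 0), (0, 0), (0, 0), (0, 0), (0, 0), (0, 0)]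

end CfsgLib.ONOut
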