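import Cfsg.Agent.Lib.ONOut.Base
import Cfsg.Agent.Lib.Presented.ONCosets

/-!
Evaluation of words at single points of the table with 122760 points, arranged for the kernel: values are
passed on as numerals and each stage is one arithmetic expression.
-/
set_option autoImplicit false
set_option maxRecDepth 20000

namespace CfsgLib.ONOut

open CfsgLib.Presented CfsgLib.Presented.Vec

/-- Where a stage sends a point, without branching. -/
noncomputable def stageArith (s : Stage) (i : ℕ) : ℕ :=
  Stage.rec (motive := fun _ => ℕ) (fun d m =>
    Nat.sub (Nat.add i (Nat.mul d (Nat.land (Nat.shiftRight m i) 1)))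
      (Nat.mul d (Nat.land (Nat.shiftRight (Nat.shiftLeft m d) i) 1))) s

theorem land_one (v i : ℕ) : Nat.land (Nat.shiftRight v i) 1 = cond (v.testBit i) 1 0 := by
  show (v >>> i) &&& 1 = _
  rw [Nat.and_one_is_mod, Nat.testBit_eq_decide_div_mod_eq, Nat.shiftRight_eq_div_pow]
  rcases Nat.mod_two_eq_zero_or_one (v / 2 ^ i) with h | h <;> simp [h]

theorem stageArith_eq {s : Stage} (h : s.ok = true) (i : ℕ) : stageArith s i = stageAt s i := by
  have hd := Stage.mask_disjoint h
  cases s with
  | mk d m =>
    simp only [stageArith, stageAt, land_one, Nat.mul_eq, Nat.add_eq, Nat.sub_eq]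
    rw [show (Nat.shiftLeft m d).testBit i = (decide (d ≤ i) && m.testBit (i - d)) by
      show (m <<< d).testBit i = _; simp]
    cases hm : m.testBit i
    · by_cases hdi : d ≤ i
      · cases hm2 : m.testBit (i - d) <;> simp [Nat.ble_eq.mpr hdi, hdi]
      · have hb : Nat.ble d i = false := by
          rw [← Bool.not_eq_true]
          exact fun hb => hdi (Nat.ble_eq.mp hb)
        simp [hb, hdi]
    · by_cases hdi : d ≤ i
      · have hm2 : m.testBit (i - d) = false := by
          cases h2 : m.testBit (i - d)
          · rfl
          · have := hd (i - d) h2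
            simp only [Nat.sub_add_cancel hdi] at this
            rw [hm] at this
            exact absurd this (by simp)
        simp [hm2]
      · simp [hdi]

/-- Run reversed stages, passing values on. -/
noncomputable def runStages (l : List Stage) : ℕ → ℕ :=
  List.rec (motive := fun _ => ℕ → ℕ) (fun i => i) (fun s _ ih i => force (stageArith s i) fun j => ih j) l

/-- Run a reversed word, passing values on. -/
noncomputable def runWord (w : List ℕ) : ℕ → ℕ :=
  List.rec (motive := fun _ => ℕ → ℕ) (fun i => i)
    (fun x _ ih i => force (runStages (ONCert.rep.net x).reverse i) fun j => ih j) w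

/-- Where a word sends a point. -/
noncomputable def wAt (w : List ℕ) (i : ℕ) : ℕ := runWord w.reverse i

theorem runStages_eq : ∀ {l : List Stage}, netOk l = true → ∀ (k : List Stage) (i : ℕ),
    runStages (l.reverse ++ k) i = runStages k (netAt l i)
  | [], _, _, _ => rfl
  | s :: l, h, k, i => by
    simp only [netOk, List.all_cons, Bool.and_eq_true] at h
    rw [List.reverse_cons, List.append_assoc, runStages_eq (l := l) h.2, List.singleton_append]
    show (force (stageArith s (netAt l i)) fun j => runStages k j) = runStages k (force (netAt l i) fun j => stageAt s j)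
    rw [force_eq, force_eq, stageArith_eq h.1]

theorem runWord_eq : ∀ (w k : List ℕ) (i : ℕ),
    runWord (w.reverse ++ k) i = runWord k (wordAt ONCert.rep w i)
  | [], _, _ => rfl
  | x :: w, k, i => by
    rw [List.reverse_cons, List.append_assoc, runWord_eq w, List.singleton_append]
    show (force (runStages (ONCert.rep.net x).reverse (wordAt ONCert.rep w i)) fun j => runWord k j) =
      runWord k (force (wordAt ONCert.rep w i) fun j => netAt (ONCert.rep.net x) j)
    rw [force_eq, force_eq]
    have h := runStages_eq ((Rep.valid_spec ONCosets.rep_valid).2.2.1 x) [] (wordAt ONCert.rep w i)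
    rw [List.append_nil] at h
    rw [h]
    rfl

theorem wAt_eq (w : List ℕ) (i : ℕ) : wAt w i = wordAt ONCert.rep w i := by
  have h := runWord_eq w [] i
  rw [List.append_nil] at h
  exact h

end CfsgLib.ONOut
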