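import Cfsg.Agent.Lib.Presented.ONOrder
import Cfsg.Agent.Lib.ONOut.Base
import Cfsg.Agent.Lib.ONOut.FastEval
import Cfsg.Agent.Lib.ONOut.BaseData

/-!
Three points form a base of the presented group of O'Nan on 122760 points.
-/
set_option autoImplicit false
set_option maxRecDepth 20000

namespace CfsgLib.ONOut

open CfsgLib.Presented
open ONCosets (ev ev_one ev_inv rels_hold phi phi_ev rep_valid)

/-- The points of the table. -/
abbrev Pt : Type := Fin ONCert.rep.N

theorem orb1_ok : orbitOK ONCert.rep [[1], [2], [3], [4], [5], [6]] basePt1 rounds1 orb1 = true := by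
  decide +kernel

theorem orb1_count : Nat.beq (bitCountBig orb1 ONCert.rep.N) 5586 = true := by decide +kernel

theorem orb2_ok : orbitOK ONCert.rep [[1], [2], [3], [4]] basePt2 rounds2 orb2 = true := by decide +kernel

theorem orb2_count : Nat.beq (bitCountBig orb2 ONCert.rep.N) 672 = true := by decide +kernel

theorem pts_lt : basePt1 < ONCert.rep.N ∧ basePt2 < ONCert.rep.N ∧ 0 < ONCert.rep.N := by
  have h : (Nat.blt basePt1 ONCert.rep.N && Nat.blt basePt2 ONCert.rep.N && Nat.blt 0 ONCert.rep.N) = true := by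
    decide +kernel
  simp only [Bool.and_eq_true, Nat.blt_eq] at h
  exact ⟨h.1.1, h.1.2, h.2⟩

theorem fix1 : ([1, 2, 3, 4].all fun x => Nat.blt x ONCert.rep.A.eps &&
    Nat.beq (wAt [x] basePt1) basePt1) = true := by decide +kernel

theorem phi_word {w : List ℕ} (hw : ∀ x ∈ w, x < ONCert.alphabet.eps) :
    phi (evW ev w) = evW (ONCert.rep.perm rep_valid) w := by
  simp only [evW, map_list_prod, List.map_map]
  rw [List.map_congr_left (f := ⇑phi ∘ ev) (g := ONCert.rep.perm rep_valid) fun x hx => phi_ev x (hw x hx)]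

/-- The image of a point under a word. -/
theorem phi_at {w : List ℕ} (hw : ∀ x ∈ w, x < ONCert.alphabet.eps) (i : Pt) :
    (phi (evW ev w) i : ℕ) = wAt w i := by
  rw [phi_word hw, wAt_eq, wordAt_eq rep_valid]

theorem phi_eq_one_of_base {g : Cfsg.Spor.ON} (h : ∀ i : Pt,
    (i : ℕ) = 0 ∨ (i : ℕ) = basePt1 ∨ (i : ℕ) = basePt2 → phi g i = i) : g = 1 := by
  have hgH : g ∈ ONCosets.H := ONOrder.mem_H_of_fix (h ⟨0, VCert.pos ONCert.cert_ok⟩ (Or.inl rfl))
  set K := ONCosets.H.map phi with hK
  have hKc : Nat.card K ≤ 3753792 := by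
    rw [← ONOrder.card_H]
    have : Finite ONCosets.H := Nat.finite_of_card_ne_zero ONOrder.card_H_le.1
    exact Nat.card_le_card_of_surjective _ (phi.subgroupMap_surjective ONCosets.H)
  have h1 := orbit_mul_card_fixer_le rep_valid orb1_ok (bitCount_of_big orb1_count) phi phi_ev pts_lt.1 K
    (fun w hw => ⟨_, ONCosets.mem_H (w := w) hw, rfl⟩)
  set K1 := K ⊓ fixer [(⟨basePt1, pts_lt.1⟩ : Pt)] with hK1
  have h2 := orbit_mul_card_fixer_le rep_valid orb2_ok (bitCount_of_big orb2_count) phi phi_ev pts_lt.2.1 K1 (by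
    intro w hw
    have hw6 : w ∈ ONCosets.hWords := by
      have : ([[1], [2], [3], [4]] : List (List ℕ)).all (fun w => ONCosets.hWords.contains w) = true := by
        decide +kernel
      exact List.contains_iff_mem.1 (List.all_eq_true.1 this w hw)
    refine ⟨⟨_, ONCosets.mem_H hw6, rfl⟩, fun p hp => ?_⟩
    rw [List.mem_singleton] at hp
    subst hp
    obtain ⟨x, hx, rfl⟩ : ∃ x ∈ [1, 2, 3, 4], w = [x] := by
      simp only [List.mem_cons, List.not_mem_nil, or_false] at hw
      rcases hw with rfl | rfl | rfl | rfl <;> exact ⟨_, by simp, rfl⟩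
    have hf := List.all_eq_true.1 fix1 x hx
    rw [Bool.and_eq_true, Nat.blt_eq] at hf
    apply Fin.ext
    rw [phi_at (fun y hy => by rw [List.mem_singleton] at hy; subst hy; exact hf.1)]
    exact Nat.eq_of_beq_eq_true hf.2)
  set K2 := K1 ⊓ fixer [(⟨basePt2, pts_lt.2.1⟩ : Pt)] with hK2
  have hc1 : Nat.card K2 = 1 := by
    have : 0 < Nat.card K2 := Nat.card_pos
    nlinarith
  have hmem : phi g ∈ K2 := by
    refine ⟨⟨⟨g, hgH, rfl⟩, ?_⟩, ?_⟩ <;> intro p hp <;> rw [List.mem_singleton] at hp <;> subst hp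
    · exact h _ (Or.inr (Or.inl rfl))
    · exact h _ (Or.inr (Or.inr rfl))
  rw [Subgroup.card_eq_one.1 hc1, Subgroup.mem_bot] at hmem
  exact ONOrder.phi_injective (hmem.trans (map_one phi).symm)

/-- Elements agreeing on the base are equal. -/
theorem ext_base {g g' : Cfsg.Spor.ON} (h : ∀ i : Pt,
    (i : ℕ) = 0 ∨ (i : ℕ) = basePt1 ∨ (i : ℕ) = basePt2 → phi g i = phi g' i) : g = g' := by
  have h1 : g'⁻¹ * g = 1 := by
    refine phi_eq_one_of_base fun i hi => ?_
    rw [map_mul, map_inv, Equiv.Perm.mul_apply, h i hi]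
    exact Equiv.symm_apply_apply _ _
  exact (inv_mul_eq_one.1 h1).symm

/-- Two words agree on the base. -/
noncomputable def sameW (u v : List ℕ) : Bool :=
  u.all (fun x => Nat.blt x 8) && v.all (fun x => Nat.blt x 8) &&
    [0, basePt1, basePt2].all fun i => Nat.beq (wAt u i) (wAt v i)

theorem eps_eq : ONCert.alphabet.eps = 8 := by decide +kernel

theorem sameW_spec {u v : List ℕ} (h : sameW u v = true) : evW ev u = evW ev v := by
  simp only [sameW, Bool.and_eq_true, List.all_eq_true, Nat.blt_eq] at h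
  obtain ⟨⟨hu, hv⟩, h3⟩ := h
  refine ext_base fun i hi => Fin.ext ?_
  rw [phi_at (fun x hx => eps_eq ▸ hu x hx), phi_at (fun x hx => eps_eq ▸ hv x hx)]
  refine Nat.eq_of_beq_eq_true (h3 _ ?_)
  simp only [List.mem_cons, List.not_mem_nil, or_false]
  exact hi

/-- A word which moves one of the points is not trivial. -/
theorem word_ne_one {w : List ℕ} {i : ℕ} (hw : w.all (fun x => Nat.blt x 8) = true) (hi : i < ONCert.rep.N)
    (h : Nat.beq (wAt w i) i = false) : evW ev w ≠ 1 := by
  intro he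
  simp only [List.all_eq_true, Nat.blt_eq] at hw
  have := phi_at (fun x hx => eps_eq ▸ hw x hx) (⟨i, hi⟩ : Pt)
  rw [he, map_one] at this
  have h2 : wAt w i = i := this.symm
  rw [h2, Nat.beq_refl] at h
  exact absurd h (by decide)

end CfsgLib.ONOut
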