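import Mathlib

/-! Counting the normalizer of a Sylow subgroup of order 19 in a group of order 3753792. -/

set_option autoImplicit false

namespace CfsgLib.ONOut

variable {G : Type*} [Group G] [Finite G]

/-- The arithmetic of the count. -/
theorem cent_arith {n c e : ℕ} (hn : n * (c * e) = 3753792) (hmod : n % 19 = 1) (h19 : 19 ∣ c)
    (hc : c ≤ 114) (he : e ∣ 18) (he6 : 6 ∣ e) : c = 19 := by
  obtain ⟨k, rfl⟩ := h19
  have hk : k ≤ 6 := by omega
  have he' : e = 6 ∨ e = 18 := by
    have : e ≤ 18 := Nat.le_of_dvd (by norm_num) he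
    obtain ⟨m, rfl⟩ := he6
    have hm : m ≤ 3 := by omega
    interval_cases m <;> omega
  rcases he' with rfl | rfl <;> interval_cases k <;> omega

/-- A bound on the centralizer and an element inducing an automorphism of order 6 make an element of order 19
self-centralising. -/
theorem card_cent_eq [hp : Fact (Nat.Prime 19)] (hG : Nat.card G = 3753792) {a b : G}
    (ha : orderOf a = 19) (hb : b * a * b⁻¹ = a ^ 12)
    (hc : Nat.card (Subgroup.centralizer ({a} : Set G)) ≤ 114) :
    Nat.card (Subgroup.centralizer ({a} : Set G)) = 19 := by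
  classical
  set P := Subgroup.zpowers a with hP
  have hPc : Nat.card P = 19 := by rw [Nat.card_zpowers, ha]
  have hfac : (Nat.card G).factorization 19 = 1 := by
    rw [hG, show (3753792 : ℕ) = 19 * 197568 by norm_num, Nat.factorization_mul (by norm_num) (by norm_num),
      Finsupp.add_apply, (show Nat.Prime 19 by norm_num).factorization_self,
      Nat.factorization_eq_zero_of_not_dvd (by norm_num : ¬ 19 ∣ 197568)]
  let S : Sylow 19 G := Sylow.ofCard P (by rw [hPc, hfac, pow_one])
  have hn := card_sylow_modEq_one (G := G) (p := 19)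
  rw [S.card_eq_index_normalizer] at hn
  have hcC : Subgroup.centralizer (P : Set G) = Subgroup.centralizer ({a} : Set G) := by
    rw [hP, Subgroup.zpowers_eq_closure, Subgroup.centralizer_closure]
  set N := Subgroup.normalizer (P : Set G) with hN
  let φ := P.normalizerMonoidHom
  have hker : Nat.card φ.ker = Nat.card (Subgroup.centralizer ({a} : Set G)) := by
    rw [show φ.ker = (Subgroup.centralizer (P : Set G)).subgroupOf N from Subgroup.normalizerMonoidHom_ker (H := P)]
    rw [Nat.card_congr (Subgroup.subgroupOfEquivOfLe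
      (show Subgroup.centralizer (P : Set G) ≤ N from Subgroup.centralizer_le_normalizer _)).toEquiv, hcC]
  have he : Nat.card φ.range ∣ 18 := by
    have h := Subgroup.card_subgroup_dvd_card φ.range
    rwa [IsCyclic.card_mulAut, hPc, Nat.totient_prime (by norm_num : Nat.Prime 19)] at h
  have hbi : ∀ i : ℕ, b ^ i * a * (b ^ i)⁻¹ = a ^ (12 ^ i) := by
    intro i
    induction i with
    | zero => simp
    | succ i ih =>
      calc b ^ (i + 1) * a * (b ^ (i + 1))⁻¹ = b * (b ^ i * a * (b ^ i)⁻¹) * b⁻¹ := by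
            rw [pow_succ']; group
        _ = (b * a * b⁻¹) ^ (12 ^ i) := by rw [ih, conj_pow]
        _ = a ^ (12 ^ (i + 1)) := by rw [hb, ← pow_mul, pow_succ']
  have hbN : b ∈ N := by
    refine Subgroup.mem_normalizer_fintype fun v hv => ?_
    obtain ⟨k, rfl⟩ := Subgroup.mem_zpowers_iff.mp hv
    rw [← conj_zpow, hb, ← zpow_natCast, ← zpow_mul]
    exact Subgroup.mem_zpowers_iff.mpr ⟨_, rfl⟩
  have hval : ∀ i : ℕ, ((φ (⟨b, hbN⟩ ^ i)) ⟨a, Subgroup.mem_zpowers a⟩ : G) = b ^ i * a * (b ^ i)⁻¹ := fun i => rfl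
  have ho : orderOf (φ ⟨b, hbN⟩) = 6 := by
    rw [orderOf_eq_iff (by norm_num)]
    refine ⟨?_, fun m hm6 hm0 h1 => ?_⟩
    · rw [← map_pow]
      refine MulEquiv.ext fun ⟨v, hv⟩ => Subtype.ext ?_
      obtain ⟨k, rfl⟩ := Subgroup.mem_zpowers_iff.mp hv
      show b ^ 6 * a ^ k * (b ^ 6)⁻¹ = a ^ k
      rw [← conj_zpow, hbi]
      congr 1
      have h : a ^ (12 ^ 6) = a ^ 1 := pow_inj_mod.mpr (by rw [ha]; norm_num)
      rw [h, pow_one]
    · have h := hval m
      rw [map_pow, h1, MulAut.one_apply, hbi] at h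
      have h' := pow_inj_mod.mp (show a ^ 1 = a ^ 12 ^ m by rw [pow_one]; exact h)
      rw [ha] at h'
      interval_cases m <;> norm_num at h'
  have he6 : 6 ∣ Nat.card φ.range := by
    have h := orderOf_dvd_natCard (⟨φ ⟨b, hbN⟩, ⟨_, rfl⟩⟩ : φ.range)
    rwa [← Subgroup.orderOf_coe, ho] at h
  have hNcard : Nat.card N = Nat.card (Subgroup.centralizer ({a} : Set G)) * Nat.card φ.range := by
    rw [← hker, ← Subgroup.index_ker φ, Subgroup.card_mul_index]
  have hidx := Subgroup.card_mul_index N
  rw [hG, hNcard] at hidx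
  have h19 : 19 ∣ Nat.card (Subgroup.centralizer ({a} : Set G)) := by
    rw [← ha, ← Subgroup.orderOf_mk a (Subgroup.mem_centralizer_singleton_iff.mpr rfl)]
    exact orderOf_dvd_natCard _
  exact cent_arith (n := N.index) (by rw [mul_comm]; exact hidx) hn h19 hc he he6

end CfsgLib.ONOut
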