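import Cfsg.Agent.Lib.ONOut.SmallRep
import Cfsg.Agent.Lib.ONOut.GBase
import Cfsg.Agent.Lib.ONOut.Sylow
import Cfsg.Agent.Lib.ONOut.ElemData

/-!
An element of order 19 of the presented group of O'Nan is self-centralising; the centralizer of an element of order 6.
-/
set_option autoImplicit false
set_option maxRecDepth 20000
set_option Elab.async false

namespace CfsgLib.ONOut

open CfsgLib.Presented CfsgLib.Presented.Vec
open ONCosets (ev ev_one ev_inv rels_hold phi phi_ev rep_valid)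

attribute [local irreducible] frameX frameB qTab incTab bOrb zWords coWords lcWords xWord bWord goodPts badRows orb1 orb2

/-- The points moved by a word. -/
noncomputable def movedSet (R : Rep) (w : List ℕ) : ℕ :=
  (slices R.m).foldr (fun s acc => force acc fun acc => Nat.lor (Nat.xor (applyNet (R.netW w) s) s) acc) 0

theorem movedSet_spec {R : Rep} (h : R.valid = true) (w : List ℕ) {i : Fin R.N}
    (hb : (movedSet R w).testBit i = true) : wordAt R w i ≠ i := by
  rw [wordAt_eq h, Rep.netW_perm h]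
  have key : ∀ l : List ℕ, (l.foldr (fun s acc => force acc fun acc =>
      Nat.lor (Nat.xor (applyNet (R.netW w) s) s) acc) 0).testBit i = true →
      ∃ s ∈ l, s.testBit (netPerm (R.netW w) i) ≠ s.testBit i := by
    intro l
    induction l with
    | nil => simp
    | cons s l ih =>
      intro hl
      rw [List.foldr_cons, force_eq] at hl
      change Nat.testBit ((_ ^^^ _) ||| _) _ = true at hl
      rw [Nat.testBit_or, Bool.or_eq_true] at hl
      rcases hl with hl | hl
      · refine ⟨s, List.mem_cons_self, fun he => ?_⟩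
        rw [Nat.testBit_xor, testBit_applyNet (Rep.netOk_netW h w), he] at hl
        simp at hl
      · obtain ⟨t, ht, hne⟩ := ih hl
        exact ⟨t, List.mem_cons_of_mem _ ht, hne⟩
  obtain ⟨s, -, hne⟩ := key _ hb
  exact fun he => hne (by rw [he])

/-- The set of the listed points. -/
noncomputable def ptSet (l : List ℕ) : ℕ := l.foldr (fun q acc => Nat.lor (Nat.shiftLeft 1 q) acc) 0

theorem ptSet_spec : ∀ {l : List ℕ} {p : ℕ}, (ptSet l).testBit p = true → p ∈ l
  | [], p, h => by simp [ptSet] at h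
  | q :: l, p, h => by
    change Nat.testBit ((1 <<< q) ||| ptSet l) p = true at h
    rw [Nat.testBit_or, Bool.or_eq_true] at h
    rcases h with h | h
    · rw [Nat.testBit_shiftLeft, Bool.and_eq_true, decide_eq_true_eq] at h
      have := VCert.one_bit h.2
      exact List.mem_cons.2 (Or.inl (by omega))
    · exact List.mem_cons_of_mem _ (ptSet_spec h)

/-- The fixed points of a word lie among the listed ones. -/
noncomputable def fixedIn (w l : List ℕ) : Bool :=
  w.all (fun x => Nat.blt x 8) &&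
    Nat.beq (Nat.land (Nat.lor (ptSet l) (movedSet ONCert.rep w)) (ones ONCert.rep.N)) (ones ONCert.rep.N)

theorem fixedIn_spec {w l : List ℕ} (h : fixedIn w l = true) {i : Pt} (hi : phi (evW ev w) i = i) : (i : ℕ) ∈ l := by
  simp only [fixedIn, Bool.and_eq_true, List.all_eq_true, Nat.blt_eq] at h
  have h2 := congrArg (fun n => n.testBit (i : ℕ)) (Nat.eq_of_beq_eq_true h.2)
  change Nat.testBit ((ptSet l ||| _) &&& _) _ = _ at h2
  rw [Nat.testBit_and, Nat.testBit_or, testBit_ones, decide_eq_true i.2, Bool.and_true, Bool.or_eq_true] at h2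
  rcases h2 with h2 | h2
  · exact ptSet_spec h2
  · refine absurd ?_ (movedSet_spec rep_valid w h2)
    rw [← wAt_eq, ← phi_at (fun x hx => eps_eq ▸ h.1 x hx), hi]

/-- The element of order 19. -/
noncomputable def xEl : Cfsg.Spor.ON := evW ev xWord
/-- The element of order 6. -/
noncomputable def bEl : Cfsg.Spor.ON := evW ev bWord

theorem elem_ok : (xWord.all (fun x => hl.contains x) && bWord.all (fun x => hl.contains x) &&
    sameW (wpow xWord 19) [] && sameW (bWord ++ xWord) (wpow xWord 12 ++ bWord) &&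
    fixedIn xWord [0] && fixedIn bWord (goodPts ++ badRows.map Prod.fst)) = true := by decide +kernel

theorem elem_facts : (∀ x ∈ xWord, x ∈ hl) ∧ (∀ x ∈ bWord, x ∈ hl) ∧ xEl ^ 19 = 1 ∧
    bEl * xEl = xEl ^ 12 * bEl ∧ fixedIn xWord [0] = true ∧
    fixedIn bWord (goodPts ++ badRows.map Prod.fst) = true := by
  have h := elem_ok
  simp only [Bool.and_eq_true, List.all_eq_true, List.contains_iff_mem] at h
  obtain ⟨⟨⟨⟨⟨hx, hb⟩, h19⟩, hc⟩, hfx⟩, hfb⟩ := h
  refine ⟨hx, hb, ?_, ?_, hfx, hfb⟩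
  · have := sameW_spec h19
    rwa [evW_wpow, evW_nil] at this
  · have := sameW_spec hc
    rwa [evW_append, evW_append, evW_wpow] at this

theorem word_mem_H {w : List ℕ} (hw : ∀ x ∈ w, x ∈ hl) : evW ev w ∈ ONCosets.H :=
  snd_graph ▸ ⟨_, word_mem_graph hw, rfl⟩

theorem xEl_ne : xEl ≠ 1 := by
  intro he
  have h : Nat.beq (qW xWord objP) objP = false := by decide +kernel
  have hlt : objP < 114 := by decide +kernel
  have hg : (evW qP xWord, (1 : Cfsg.Spor.ON)) ∈ graphQ := he ▸ word_mem_graph elem_facts.1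
  have := graph_unique hg (one_mem graphQ)
  rw [← qW_eq elem_facts.1 ⟨objP, hlt⟩, this] at h
  rw [show (((1 : Equiv.Perm (Fin 114)) ⟨objP, hlt⟩ : Fin 114) : ℕ) = objP from rfl, Nat.beq_refl] at h
  exact absurd h (by decide)

theorem orderOf_xEl : orderOf xEl = 19 :=
  haveI : Fact (Nat.Prime 19) := ⟨by norm_num⟩
  orderOf_eq_prime elem_facts.2.2.1 xEl_ne

theorem conj_x : bEl * xEl * bEl⁻¹ = xEl ^ 12 := mul_inv_eq_iff_eq_mul.2 elem_facts.2.2.2.1

theorem iter_fix {p : Equiv.Perm (Fin 114)} {q : Equiv.Perm (Fin 114)} (hc : p * q = q * p) {i : Fin 114}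
    (hi : p i = i) : ∀ k : ℕ, p ((q ^ k) i) = (q ^ k) i := by
  intro k
  have h : p * q ^ k = q ^ k * p := (Commute.pow_right hc k).eq
  have := congrArg (fun f : Equiv.Perm (Fin 114) => f i) h
  simpa [Equiv.Perm.mul_apply, hi] using this

/-- The point from which the frame of the element of order 19 is reached. -/
noncomputable def xStart : ℕ := (frameX.getD 0 (0, [])).1

theorem xframe_ok : (Nat.blt xStart 114 && frameX.all fun e => (List.range 19).any fun k =>
    Nat.beq (qW (wpow xWord k) xStart) e.1) = true := by decide +kernel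

theorem xStart_lt : xStart < 114 := by
  have h := xframe_ok
  rw [Bool.and_eq_true, Nat.blt_eq] at h
  exact h.1

theorem card_cent_le {y z : Cfsg.Spor.ON} {p q : Equiv.Perm (Fin 114)} (hy : (p, y) ∈ graphQ)
    (hz : (q, z) ∈ graphQ) (hyc : y * xEl = xEl * y) (hzc : z * xEl = xEl * z)
    (h : p ⟨xStart, xStart_lt⟩ = q ⟨xStart, xStart_lt⟩) : y = z := by
  have hm : (q⁻¹ * p, z⁻¹ * y) ∈ graphQ := graphQ.mul_mem (graphQ.inv_mem hz) hy
  have hxg := word_mem_graph elem_facts.1
  have hcomm : (z⁻¹ * y) * xEl = xEl * (z⁻¹ * y) :=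
    (Commute.mul_left (Commute.inv_left hzc) hyc).eq
  have hpc : (q⁻¹ * p) * evW qP xWord = evW qP xWord * (q⁻¹ * p) :=
    graph_unique (h := (z⁻¹ * y) * xEl) (graphQ.mul_mem hm hxg) (hcomm ▸ graphQ.mul_mem hxg hm)
  have hfix : (q⁻¹ * p) ⟨xStart, xStart_lt⟩ = ⟨xStart, xStart_lt⟩ := by
    rw [Equiv.Perm.mul_apply, h]
    exact Equiv.symm_apply_apply _ _
  refine (inv_mul_eq_one.1 (eq_one_of_frame frameX_ok hm fun e he i hi => ?_).2).symm
  have hok := xframe_ok
  simp only [Bool.and_eq_true, List.all_eq_true, List.any_eq_true] at hok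
  obtain ⟨k, -, hk⟩ := hok.2 e he
  have hlet : ∀ x ∈ wpow xWord k, x ∈ hl := fun x hx => by
    obtain ⟨l, hl', hxl⟩ := List.mem_flatten.1 hx
    exact elem_facts.1 x ((List.eq_of_mem_replicate hl') ▸ hxl)
  have hie : i = (evW qP xWord ^ k) ⟨xStart, xStart_lt⟩ := Fin.ext (by
    rw [← evW_wpow, qW_eq hlet, hi, Nat.eq_of_beq_eq_true hk])
  rw [hie]
  exact iter_fix hpc hfix k

theorem hC_xEl : ∀ y : Cfsg.Spor.ON, y * xEl * y⁻¹ = xEl → ∃ i : ℕ, y = xEl ^ i := by
  have : Fact (Nat.Prime 19) := ⟨by norm_num⟩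
  intro y hy
  have hyc : y * xEl = xEl * y := mul_inv_eq_iff_eq_mul.1 hy
  have hyH : y ∈ ONCosets.H := by
    refine ONOrder.mem_H_of_fix (Fin.ext ?_)
    have hx0 : phi xEl ⟨0, VCert.pos ONCert.cert_ok⟩ = ⟨0, VCert.pos ONCert.cert_ok⟩ :=
      ONCosets.H_fix _ (word_mem_H elem_facts.1)
    have h0 := fixedIn_spec elem_facts.2.2.2.2.1
      (i := phi y ⟨0, VCert.pos ONCert.cert_ok⟩) (by
        show phi xEl _ = _
        rw [← Equiv.Perm.mul_apply, ← map_mul, ← hyc, map_mul, Equiv.Perm.mul_apply, hx0])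
    simpa using h0
  have : Finite ONCosets.H := Nat.finite_of_card_ne_zero ONOrder.card_H_le.1
  let a : ONCosets.H := ⟨xEl, word_mem_H elem_facts.1⟩
  let b : ONCosets.H := ⟨bEl, word_mem_H elem_facts.2.1⟩
  have ha : orderOf a = 19 := by rw [← Subgroup.orderOf_coe]; exact orderOf_xEl
  have hb : b * a * b⁻¹ = a ^ 12 := Subtype.ext conj_x
  have hle : Nat.card (Subgroup.centralizer ({a} : Set ONCosets.H)) ≤ 114 := by
    have hc : ∀ u : Subgroup.centralizer ({a} : Set ONCosets.H),
        ∃ p : Equiv.Perm (Fin 114), (p, ((u : ONCosets.H) : Cfsg.Spor.ON)) ∈ graphQ :=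
      fun u => exists_rho (u : ONCosets.H).2
    choose p hp using hc
    have hcc : ∀ u : Subgroup.centralizer ({a} : Set ONCosets.H),
        ((u : ONCosets.H) : Cfsg.Spor.ON) * xEl = xEl * ((u : ONCosets.H) : Cfsg.Spor.ON) :=
      fun u => congrArg Subtype.val (Subgroup.mem_centralizer_singleton_iff.1 u.2)
    refine le_of_le_of_eq (Nat.card_le_card_of_injective (fun u => p u ⟨xStart, xStart_lt⟩) ?_) (Nat.card_fin 114)
    intro u v huv
    exact Subtype.ext (Subtype.ext (card_cent_le (hp u) (hp v) (hcc u) (hcc v) huv))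
  have h19 := card_cent_eq ONOrder.card_H ha hb hle
  have heq : Subgroup.zpowers a = Subgroup.centralizer ({a} : Set ONCosets.H) := by
    refine Subgroup.eq_of_le_of_card_ge ?_ (by rw [h19, Nat.card_zpowers, ha])
    rw [Subgroup.zpowers_le]
    exact Subgroup.mem_centralizer_singleton_iff.2 rfl
  have hym : (⟨y, hyH⟩ : ONCosets.H) ∈ Subgroup.zpowers a := by
    rw [heq, Subgroup.mem_centralizer_singleton_iff]
    exact Subtype.ext hyc
  obtain ⟨i, hi⟩ := Submonoid.mem_powers_iff _ _ |>.1 (mem_powers_iff_mem_zpowers.2 hym)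
  exact ⟨i, (congrArg Subtype.val hi).symm⟩

/-- An object in the orbit of another under the element of order 6. -/
noncomputable def bAt (u i : ℕ) : ℕ := Nat.mod (Nat.shiftRight (bOrb.getD u 0) (Nat.mul 7 i)) 128

theorem bOrb_ok : ((List.range 114).all fun u => Nat.beq (bAt u 0) u && !(Nat.beq (qW bWord u) u) &&
    (List.range 5).all fun i => Nat.beq (bAt u (i + 1)) (qW bWord (bAt u i))) = true := by decide +kernel

/-- A pair of objects can be the image of the chosen pair under something commuting with the element of order 6. -/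
noncomputable def pairOK (u v : ℕ) : Bool :=
  (List.range 6).all fun i => (List.range 6).all fun j =>
    incAt (bAt u i) (bAt v j) == incAt (bAt objP i) (bAt objQ j) &&
    incAt (bAt u i) (bAt u j) == incAt (bAt objP i) (bAt objP j) &&
    incAt (bAt v i) (bAt v j) == incAt (bAt objQ i) (bAt objQ j)

theorem pair_ok : ((List.range 114).all fun u => (List.range 114).all fun v =>
    !(pairOK u v) || zImgs.any fun e => Nat.beq e.1 u && Nat.beq e.2 v) = true := by decide +kernel

/-- Checks on the centralizer of the element of order 6 in the subgroup. -/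
theorem z_ok : (Nat.blt objP 114 && Nat.blt objQ 114 && Nat.beq zWords.length 12 && Nat.beq zImgs.length 12 &&
    (List.range 12).all (fun j => (zWords.getD j []).all (fun x => hl.contains x) &&
      sameW (bWord ++ zWords.getD j []) (zWords.getD j [] ++ bWord) &&
      Nat.beq (qW (zWords.getD j []) objP) (zImgs.getD j (0, 0)).1 &&
      Nat.beq (qW (zWords.getD j []) objQ) (zImgs.getD j (0, 0)).2) &&
    frameB.all fun e => (List.range 6).any fun i => Nat.beq (bAt objP i) e.1 || Nat.beq (bAt objQ i) e.1) = true := by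
  decide +kernel

theorem bAt_eq {u : Fin 114} : ∀ i, i < 6 → bAt u i = ((evW qP bWord ^ i) u : ℕ) := by
  have h := List.all_eq_true.1 bOrb_ok u (List.mem_range.2 u.2)
  simp only [Bool.and_eq_true, List.all_eq_true, List.mem_range] at h
  intro i
  induction i with
  | zero => intro _; exact Nat.eq_of_beq_eq_true h.1.1
  | succ i ih =>
    intro hi
    rw [Nat.eq_of_beq_eq_true (h.2 i (by omega)), ih (by omega), pow_succ', Equiv.Perm.mul_apply,
      qW_eq elem_facts.2.1]

theorem b_no_fix (u : Fin 114) : evW qP bWord u ≠ u := by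
  have h := List.all_eq_true.1 bOrb_ok u (List.mem_range.2 u.2)
  simp only [Bool.and_eq_true, Bool.not_eq_true'] at h
  intro he
  have h2 := h.1.2
  rw [← qW_eq elem_facts.2.1, he, Nat.beq_refl] at h2
  exact absurd h2 (by decide)

theorem cent_b_H {h : Cfsg.Spor.ON} (hh : h ∈ ONCosets.H) (hc : h * bEl = bEl * h) :
    ∃ j < 12, h = evW ev (zWords.getD j []) := by
  obtain ⟨p, hp⟩ := exists_rho hh
  have hz := z_ok
  simp only [Bool.and_eq_true, List.all_eq_true, List.mem_range, Nat.blt_eq, List.contains_iff_mem,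
    List.any_eq_true, Bool.or_eq_true] at hz
  obtain ⟨⟨⟨⟨⟨hP, hQ⟩, -⟩, hlen⟩, hz⟩, hfr⟩ := hz
  have hbg := word_mem_graph elem_facts.2.1
  have hpc : p * evW qP bWord = evW qP bWord * p :=
    graph_unique (h := h * bEl) (graphQ.mul_mem hp hbg) (hc ▸ graphQ.mul_mem hbg hp)
  have horb : ∀ (u : Fin 114) (i : ℕ), i < 6 → bAt (p u : ℕ) i = ((p ((evW qP bWord ^ i) u)) : ℕ) := fun u i hi => by
    rw [bAt_eq i hi, ← Equiv.Perm.mul_apply, ← (Commute.pow_right hpc i).eq, Equiv.Perm.mul_apply]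
  have hpair : pairOK (p ⟨objP, hP⟩) (p ⟨objQ, hQ⟩) = true := by
    simp only [pairOK, List.all_eq_true, List.mem_range, Bool.and_eq_true, beq_iff_eq]
    intro i hi j hj
    have eP : ∀ k, k < 6 → bAt objP k = ((evW qP bWord ^ k) ⟨objP, hP⟩ : ℕ) := fun k hk =>
      bAt_eq (u := ⟨objP, hP⟩) k hk
    have eQ : ∀ k, k < 6 → bAt objQ k = ((evW qP bWord ^ k) ⟨objQ, hQ⟩ : ℕ) := fun k hk =>
      bAt_eq (u := ⟨objQ, hQ⟩) k hk
    refine ⟨⟨?_, ?_⟩, ?_⟩ <;> simp only [horb, hi, hj, eP, eQ, inc_graph hp]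
  have hall := List.all_eq_true.1 (List.all_eq_true.1 pair_ok _ (List.mem_range.2 (p ⟨objP, hP⟩).2)) _
    (List.mem_range.2 (p ⟨objQ, hQ⟩).2)
  rw [hpair, Bool.not_true, Bool.false_or, List.any_eq_true] at hall
  obtain ⟨e, he, hee⟩ := hall
  obtain ⟨j, hj, rfl⟩ := List.getElem_of_mem he
  have hj12 : j < 12 := by rw [← Nat.eq_of_beq_eq_true hlen]; exact hj
  refine ⟨j, hj12, ?_⟩
  obtain ⟨⟨⟨hzl, hzc⟩, hz1⟩, hz2⟩ := hz j hj12
  rw [List.getD_eq_getElem _ _ hj] at hz1 hz2
  rw [Bool.and_eq_true] at hee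
  set zw := zWords.getD j [] with hzw
  have hzg := word_mem_graph hzl
  have hm : ((evW qP zw)⁻¹ * p, (evW ev zw)⁻¹ * h) ∈ graphQ := graphQ.mul_mem (graphQ.inv_mem hzg) hp
  have hzc' : evW ev zw * bEl = bEl * evW ev zw := by
    have := sameW_spec hzc
    rw [evW_append, evW_append] at this
    exact this.symm
  have hcomm : ((evW ev zw)⁻¹ * h) * bEl = bEl * ((evW ev zw)⁻¹ * h) :=
    (Commute.mul_left (Commute.inv_left hzc') hc).eq
  have hmc : ((evW qP zw)⁻¹ * p) * evW qP bWord = evW qP bWord * ((evW qP zw)⁻¹ * p) :=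
    graph_unique (h := ((evW ev zw)⁻¹ * h) * bEl) (graphQ.mul_mem hm hbg) (hcomm ▸ graphQ.mul_mem hbg hm)
  have hP' : ((evW qP zw)⁻¹ * p) ⟨objP, hP⟩ = ⟨objP, hP⟩ := by
    rw [Equiv.Perm.mul_apply, Equiv.Perm.inv_eq_iff_eq]
    apply Fin.ext
    rw [qW_eq hzl, Nat.eq_of_beq_eq_true hz1, Nat.eq_of_beq_eq_true hee.1]
  have hQ' : ((evW qP zw)⁻¹ * p) ⟨objQ, hQ⟩ = ⟨objQ, hQ⟩ := by
    rw [Equiv.Perm.mul_apply, Equiv.Perm.inv_eq_iff_eq]
    apply Fin.ext
    rw [qW_eq hzl, Nat.eq_of_beq_eq_true hz2, Nat.eq_of_beq_eq_true hee.2]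
  have h1 := (eq_one_of_frame frameB_ok hm fun e he i hi => by
    obtain ⟨k, hk, hk'⟩ := hfr e he
    rcases hk' with hk' | hk'
    · have hie : i = (evW qP bWord ^ k) ⟨objP, hP⟩ := Fin.ext (by
        rw [hi, ← bAt_eq (u := ⟨objP, hP⟩) k hk]; exact (Nat.eq_of_beq_eq_true hk').symm)
      rw [hie]; exact iter_fix hmc hP' k
    · have hie : i = (evW qP bWord ^ k) ⟨objQ, hQ⟩ := Fin.ext (by
        rw [hi, ← bAt_eq (u := ⟨objQ, hQ⟩) k hk]; exact (Nat.eq_of_beq_eq_true hk').symm)
      rw [hie]; exact iter_fix hmc hQ' k).2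
  exact (inv_mul_eq_one.1 h1).symm

/-- Checks on one coset of the centralizer of the element of order 6. -/
noncomputable def coPart (q : ℕ) : Bool :=
  (coWords.getD q []).all (fun x => Nat.blt x 8) &&
    sameW (bWord ++ coWords.getD q []) (coWords.getD q [] ++ bWord) &&
    Nat.beq (wAt (coWords.getD q []) 0) (goodPts.getD q 0) &&
    (List.range 12).all fun j => Nat.blt ((lcIdx.getD q []).getD j 0) 72 &&
      sameW (lcWords.getD ((lcIdx.getD q []).getD j 0) []) (coWords.getD q [] ++ zWords.getD j [])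

theorem co_ok0 : coPart 0 = true := by decide +kernel

theorem co_ok1 : coPart 1 = true := by decide +kernel

theorem co_ok2 : coPart 2 = true := by decide +kernel

theorem co_ok3 : coPart 3 = true := by decide +kernel

theorem co_ok4 : coPart 4 = true := by decide +kernel

theorem co_ok5 : coPart 5 = true := by decide +kernel

theorem co_ok_all {q : ℕ} (hq : q < 6) : coPart q = true := by
  interval_cases q
  exacts [co_ok0, co_ok1, co_ok2, co_ok3, co_ok4, co_ok5]

/-- Checks on the points not met by the centralizer of the element of order 6. -/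
theorem co_ok : (Nat.beq goodPts.length 6 && Nat.beq lcWords.length 72 &&
    badRows.all fun e => e.2.2.1.all (fun x => Nat.blt x 8) && e.2.2.2.1.all (fun x => hl.contains x) &&
      sameW (e.2.1 ++ e.2.2.1) [] && Nat.beq (wAt e.2.2.1 0) e.1 &&
      sameW (e.2.1 ++ (bWord ++ e.2.2.1)) e.2.2.2.1 && Nat.blt e.2.2.2.2 114 &&
      Nat.beq (qW e.2.2.2.1 e.2.2.2.2) e.2.2.2.2) = true := by decide +kernel

theorem cent_b {y : Cfsg.Spor.ON} (hy : y * bEl = bEl * y) : ∃ l < 72, y = evW ev (lcWords.getD l []) := by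
  have hc := co_ok
  simp only [Bool.and_eq_true, List.all_eq_true, List.mem_range, Nat.blt_eq, List.contains_iff_mem] at hc
  obtain ⟨⟨hlen, -⟩, hbad⟩ := hc
  have hgood := fun (q : ℕ) (hq : q < 6) => co_ok_all hq
  simp only [coPart, Bool.and_eq_true, List.all_eq_true, List.mem_range, Nat.blt_eq] at hgood
  let o : Pt := ⟨0, VCert.pos ONCert.cert_ok⟩
  have hb0 : phi bEl o = o := ONCosets.H_fix _ (word_mem_H elem_facts.2.1)
  have hmem := fixedIn_spec elem_facts.2.2.2.2.2 (i := phi y o) (by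
    show phi bEl _ = _
    rw [← Equiv.Perm.mul_apply, ← map_mul, ← hy, map_mul, Equiv.Perm.mul_apply, hb0])
  have hH : ∀ t : List ℕ, (∀ x ∈ t, x < 8) → wAt t 0 = (phi y o : ℕ) →
      (evW ev t)⁻¹ * y ∈ ONCosets.H := by
    intro t ht ht0
    refine ONOrder.mem_H_of_fix ?_
    rw [map_mul, map_inv, Equiv.Perm.mul_apply, Equiv.Perm.inv_eq_iff_eq]
    exact Fin.ext ((phi_at (fun x hx => eps_eq ▸ ht x hx) o).trans ht0).symm
  rcases List.mem_append.1 hmem with hm | hm
  · obtain ⟨q, hq, hqe⟩ := List.getElem_of_mem hm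
    have hq6 : q < 6 := by rw [← Nat.eq_of_beq_eq_true hlen]; exact hq
    obtain ⟨⟨⟨hlt, hcb⟩, hat⟩, hprod⟩ := hgood q hq6
    set t := coWords.getD q [] with ht
    have hat' : wAt t 0 = (phi y o : ℕ) := by
      rw [Nat.eq_of_beq_eq_true hat, List.getD_eq_getElem _ _ hq, hqe]
    have hcb' : evW ev t * bEl = bEl * evW ev t := by
      have := sameW_spec hcb
      rw [evW_append, evW_append] at this
      exact this.symm
    obtain ⟨j, hj, he⟩ := cent_b_H (hH t hlt hat') (Commute.mul_left (Commute.inv_left hcb') hy).eq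
    obtain ⟨hl72, hsame⟩ := hprod j hj
    refine ⟨_, hl72, ?_⟩
    rw [sameW_spec hsame, evW_append, ← he, mul_inv_cancel_left]
  · exfalso
    obtain ⟨e, he, hee⟩ := List.mem_map.1 hm
    obtain ⟨⟨⟨⟨⟨⟨hlt, hvl⟩, hinv⟩, hat⟩, hv⟩, hu⟩, hfix⟩ := hbad e he
    have hat' : wAt e.2.2.1 0 = (phi y o : ℕ) := by
      rw [Nat.eq_of_beq_eq_true hat, hee]
    set t := evW ev e.2.2.1 with ht
    have hti : evW ev e.2.1 = t⁻¹ := by
      have := sameW_spec hinv
      rw [evW_append, evW_nil] at this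
      exact eq_inv_of_mul_eq_one_left this
    have hv' : t⁻¹ * (bEl * t) = evW ev e.2.2.2.1 := by
      have := sameW_spec hv
      rwa [evW_append, evW_append, hti] at this
    have hh := hH _ hlt hat'
    obtain ⟨p, hp⟩ := exists_rho hh
    have hconj : (t⁻¹ * y) * bEl = evW ev e.2.2.2.1 * (t⁻¹ * y) := by
      rw [← hv', mul_assoc, hy]; group
    have hpc : p * evW qP bWord = evW qP e.2.2.2.1 * p :=
      graph_unique (h := (t⁻¹ * y) * bEl) (graphQ.mul_mem hp (word_mem_graph elem_facts.2.1))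
        (hconj ▸ graphQ.mul_mem (word_mem_graph hvl) hp)
    have hfix' : evW qP e.2.2.2.1 ⟨e.2.2.2.2, hu⟩ = ⟨e.2.2.2.2, hu⟩ :=
      Fin.ext ((qW_eq hvl _).trans (Nat.eq_of_beq_eq_true hfix))
    apply b_no_fix (p⁻¹ ⟨e.2.2.2.2, hu⟩)
    apply p.injective
    rw [← Equiv.Perm.mul_apply, hpc, Equiv.Perm.mul_apply, Equiv.Perm.inv_def, Equiv.apply_symm_apply, hfix']

end CfsgLib.ONOut
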