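import Cfsg.Agent.Lib.ONOut.Cent
import Cfsg.Agent.Lib.Presented.ONSimple
import Cfsg.Agent.Lib.Schur.OutRigid

/-! The outer automorphism group of the presented group of O'Nan has order two. -/

set_option autoImplicit false
set_option maxRecDepth 20000
set_option Elab.async false

namespace CfsgLib.ONOut

open CfsgLib.Presented CfsgLib.Presented.Vec CfsgLib.Schur
open ONCosets (ev ev_one ev_inv rels_hold gen_top letters phi phi_ev rep_valid)

attribute [local irreducible] frameX frameB qTab incTab bOrb zWords coWords lcWords xWord bWord goodPts badRows orb1 orb2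
  xInv bInv cWord cInv cTwo imgWords genWords witness

/-- The word obtained by substituting three words. -/
def subThree (a b c : List ℕ) (w : List ℕ) : List ℕ := w.flatMap fun i => [a, b, c].getD i []

theorem evalThree_sub (a b c : List ℕ) : ∀ w : List ℕ,
    evalThree (evW ev a) (evW ev b) (evW ev c) w = evW ev (subThree a b c w)
  | [] => rfl
  | i :: w => by
    rw [evalThree, evalThree_sub a b c w, subThree, subThree, List.flatMap_cons, evW_append]
    congr 1
    rcases i with _ | _ | _ | i <;> simp

/-- The third generator. -/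
noncomputable def cEl : Cfsg.Spor.ON := evW ev cWord
/-- The other survivor. -/
noncomputable def cEl2 : Cfsg.Spor.ON := evW ev cTwo

/-- The relations separating the candidates. -/
def outRels : List (List ℕ × ℕ) := [([2], 3), ([0, 2], 20), ([0, 0, 2], 31)]

/-- The word of a relation at a candidate. -/
noncomputable def candWord (j l : ℕ) (r : List ℕ × ℕ) : List ℕ :=
  wpow (subThree (wpow xWord j) bWord (lcWords.getD l []) r.1) r.2

/-- A test on a range of numbers. -/
noncomputable def allRange (f : ℕ → Bool) (a n : ℕ) : Bool := (List.range n).all fun i => f (a + i)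

/-- The check at a candidate. -/
noncomputable def candOK (t l : ℕ) : Bool :=
  cond (Nat.beq (witness.getD (72 * t + l) (9, 0)).1 9)
    (Nat.beq t 0 && ((Nat.beq l 16 && sameW (lcWords.getD l []) cWord) || (Nat.beq l 42 && sameW (lcWords.getD l []) cTwo)))
    ((fun r : List ℕ × ℕ => fun i : ℕ =>
      Nat.blt (witness.getD (72 * t + l) (9, 0)).1 3 && Nat.blt i ONCert.rep.N &&
        (candWord ([1, 2, 4].getD t 0) l r).all (fun x => Nat.blt x 8) &&
        !(Nat.beq (wAt (candWord ([1, 2, 4].getD t 0) l r) i) i))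
      (outRels.getD (witness.getD (72 * t + l) (9, 0)).1 ([], 0))
      ([0, basePt1, basePt2].getD (witness.getD (72 * t + l) (9, 0)).2 0))

theorem cand_ok0_0 : allRange (candOK 0) 0 8 = true := by decide +kernel

theorem cand_ok0_1 : allRange (candOK 0) 8 8 = true := by decide +kernel

theorem cand_ok0_2 : allRange (candOK 0) 16 8 = true := by decide +kernel

theorem cand_ok0_3 : allRange (candOK 0) 24 8 = true := by decide +kernel

theorem cand_ok0_4 : allRange (candOK 0) 32 8 = true := by decide +kernel

theorem cand_ok0_5 : allRange (candOK 0) 40 8 = true := by decide +kernel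

theorem cand_ok0_6 : allRange (candOK 0) 48 8 = true := by decide +kernel

theorem cand_ok0_7 : allRange (candOK 0) 56 8 = true := by decide +kernel

theorem cand_ok0_8 : allRange (candOK 0) 64 8 = true := by decide +kernel

theorem cand_ok1_0 : allRange (candOK 1) 0 8 = true := by decide +kernel

theorem cand_ok1_1 : allRange (candOK 1) 8 8 = true := by decide +kernel

theorem cand_ok1_2 : allRange (candOK 1) 16 8 = true := by decide +kernel

theorem cand_ok1_3 : allRange (candOK 1) 24 8 = true := by decide +kernel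

theorem cand_ok1_4 : allRange (candOK 1) 32 8 = true := by decide +kernel

theorem cand_ok1_5 : allRange (candOK 1) 40 8 = true := by decide +kernel

theorem cand_ok1_6 : allRange (candOK 1) 48 8 = true := by decide +kernel

theorem cand_ok1_7 : allRange (candOK 1) 56 8 = true := by decide +kernel

theorem cand_ok1_8 : allRange (candOK 1) 64 8 = true := by decide +kernel

theorem cand_ok2_0 : allRange (candOK 2) 0 8 = true := by decide +kernel

theorem cand_ok2_1 : allRange (candOK 2) 8 8 = true := by decide +kernel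

theorem cand_ok2_2 : allRange (candOK 2) 16 8 = true := by decide +kernel

theorem cand_ok2_3 : allRange (candOK 2) 24 8 = true := by decide +kernel

theorem cand_ok2_4 : allRange (candOK 2) 32 8 = true := by decide +kernel

theorem cand_ok2_5 : allRange (candOK 2) 40 8 = true := by decide +kernel

theorem cand_ok2_6 : allRange (candOK 2) 48 8 = true := by decide +kernel

theorem cand_ok2_7 : allRange (candOK 2) 56 8 = true := by decide +kernel

theorem cand_ok2_8 : allRange (candOK 2) 64 8 = true := by decide +kernel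

theorem cand_ok (t l : ℕ) (ht : t < 3) (hl : l < 72) : candOK t l = true := by
  have key : ∀ a, allRange (candOK t) a 8 = true → a ≤ l → l < a + 8 → candOK t l = true := fun a h h1 h2 => by
    have := List.all_eq_true.mp h (l - a) (List.mem_range.mpr (by omega))
    rwa [Nat.add_sub_cancel' h1] at this
  obtain ⟨k, hk, h1, h2⟩ : ∃ k < 9, 8 * k ≤ l ∧ l < 8 * k + 8 := ⟨l / 8, by omega, by omega, by omega⟩
  interval_cases t <;> interval_cases k
  exacts [key _ cand_ok0_0 h1 h2,
    key _ cand_ok0_1 h1 h2,
    key _ cand_ok0_2 h1 h2,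
    key _ cand_ok0_3 h1 h2,
    key _ cand_ok0_4 h1 h2,
    key _ cand_ok0_5 h1 h2,
    key _ cand_ok0_6 h1 h2,
    key _ cand_ok0_7 h1 h2,
    key _ cand_ok0_8 h1 h2,
    key _ cand_ok1_0 h1 h2,
    key _ cand_ok1_1 h1 h2,
    key _ cand_ok1_2 h1 h2,
    key _ cand_ok1_3 h1 h2,
    key _ cand_ok1_4 h1 h2,
    key _ cand_ok1_5 h1 h2,
    key _ cand_ok1_6 h1 h2,
    key _ cand_ok1_7 h1 h2,
    key _ cand_ok1_8 h1 h2,
    key _ cand_ok2_0 h1 h2,
    key _ cand_ok2_1 h1 h2,
    key _ cand_ok2_2 h1 h2,
    key _ cand_ok2_3 h1 h2,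
    key _ cand_ok2_4 h1 h2,
    key _ cand_ok2_5 h1 h2,
    key _ cand_ok2_6 h1 h2,
    key _ cand_ok2_7 h1 h2,
    key _ cand_ok2_8 h1 h2]

theorem rels_ok : (sameW (bWord ++ cWord) (cWord ++ bWord) &&
    outRels.all fun r => sameW (wpow (subThree xWord bWord cWord r.1) r.2) []) = true := by decide +kernel

/-- The three generators and their inverses, as words. -/
noncomputable def sixWords : List (List ℕ) := [xWord, xInv, bWord, bInv, cWord, cInv]

theorem gens_ok : (sameW (xInv ++ xWord) [] && sameW (bInv ++ bWord) [] && sameW (cInv ++ cWord) [] &&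
    (List.range 7).all fun x => (genWords.getD x []).all (fun i => Nat.blt i 6) &&
      sameW ((genWords.getD x []).flatMap fun i => sixWords.getD i []) [x]) = true := by decide +kernel

theorem gen_top3 : Subgroup.closure {xEl, bEl, cEl} = (⊤ : Subgroup Cfsg.Spor.ON) := by
  have h := gens_ok
  simp only [Bool.and_eq_true, List.all_eq_true, List.mem_range, Nat.blt_eq] at h
  obtain ⟨⟨⟨hx, hb⟩, hc⟩, hg⟩ := h
  set S := Subgroup.closure {xEl, bEl, cEl} with hS
  have hinv : ∀ {u v : List ℕ}, sameW (u ++ v) [] = true → evW ev u = (evW ev v)⁻¹ := fun h => by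
    have := sameW_spec h
    rw [evW_append, evW_nil] at this
    exact eq_inv_of_mul_eq_one_left this
  have hX : evW ev xWord ∈ S := Subgroup.subset_closure (Or.inl rfl)
  have hB : evW ev bWord ∈ S := Subgroup.subset_closure (Or.inr (Or.inl rfl))
  have hC : evW ev cWord ∈ S := Subgroup.subset_closure (Or.inr (Or.inr rfl))
  have hsix : ∀ i, i < 6 → evW ev (sixWords.getD i []) ∈ S := by
    intro i hi
    interval_cases i <;> simp only [sixWords, List.getD_cons_zero, List.getD_cons_succ]
    exacts [hX, hinv hx ▸ S.inv_mem hX, hB, hinv hb ▸ S.inv_mem hB, hC, hinv hc ▸ S.inv_mem hC]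
  rw [eq_top_iff, ← gen_top, Subgroup.closure_le]
  rintro _ ⟨x, hx8, rfl⟩
  have hx8' : x < 8 := eps_eq ▸ hx8
  have key : ∀ y, y < 7 → ev y ∈ S := by
    intro y hy
    obtain ⟨hlt, hs⟩ := hg y hy
    have := sameW_spec hs
    rw [evW_cons, evW_nil, mul_one] at this
    rw [← this]
    generalize genWords.getD y [] = w at hlt
    induction w with
    | nil => exact S.one_mem
    | cons i w ih =>
      rw [List.flatMap_cons, evW_append]
      exact S.mul_mem (hsix i (hlt i List.mem_cons_self)) (ih fun j hj => hlt j (List.mem_cons_of_mem _ hj))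
  rcases Nat.lt_or_ge x 7 with h7 | h7
  · exact key x h7
  · obtain rfl : x = 7 := by omega
    have hi : ONCert.alphabet.invl 0 = 7 := by decide +kernel
    have := ev_inv 0 (by rw [eps_eq]; norm_num)
    rw [hi] at this
    rw [eq_inv_of_mul_eq_one_left this]
    exact S.inv_mem (key 0 (by norm_num))

theorem card_out_le_two : Nat.card (Cfsg.Out Cfsg.Spor.ON) ≤ 2 := by
  classical
  have : Fact (Nat.Prime 19) := ⟨by norm_num⟩
  have : Finite Cfsg.Spor.ON := Nat.finite_of_card_ne_zero (by rw [ONOrder.card_eq]; norm_num)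
  have hr := rels_ok
  simp only [Bool.and_eq_true, List.all_eq_true] at hr
  have hcb : cEl * bEl * cEl⁻¹ = bEl ^ 1 := by
    have := sameW_spec hr.1
    rw [evW_append, evW_append] at this
    rw [pow_one]
    exact mul_inv_eq_iff_eq_mul.2 this.symm
  refine card_out_le xEl bEl cEl 19 12 1 orderOf_xEl (by rw [ONOrder.card_eq]; norm_num) hC_xEl conj_x
    (by norm_num) [1, 2, 4] ?_ hcb (lcWords.map fun w => evW ev w) ?_ gen_top3 outRels ?_
    [(1, cEl), (1, cEl2)] ?_
  · have key : ((List.range 19).all fun j => j == 0 ||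
        (List.range 6).any fun i => [1, 2, 4].contains (j * 12 ^ i % 19)) = true := by decide +kernel
    intro j hj hj0
    have h := List.all_eq_true.mp key j (List.mem_range.mpr hj)
    simp only [Bool.or_eq_true, beq_iff_eq, hj0, false_or, List.any_eq_true, List.contains_eq_mem,
      decide_eq_true_eq] at h
    obtain ⟨i, -, hi⟩ := h
    exact ⟨i, hi⟩
  · intro y hy
    rw [pow_one] at hy
    obtain ⟨l, hl, rfl⟩ := cent_b (mul_inv_eq_iff_eq_mul.1 hy)
    have hlen : Nat.beq lcWords.length 72 = true := by decide +kernel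
    have hl' : l < lcWords.length := by rw [Nat.eq_of_beq_eq_true hlen]; exact hl
    rw [List.getD_eq_getElem _ _ hl']
    exact List.mem_map.mpr ⟨_, List.getElem_mem _, rfl⟩
  · intro r hr'
    rw [show xEl = evW ev xWord from rfl, show bEl = evW ev bWord from rfl, show cEl = evW ev cWord from rfl,
      evalThree_sub, ← evW_wpow]
    exact sameW_spec (hr.2 r hr')
  · intro j hj x hx hR
    obtain ⟨w, hw, rfl⟩ := List.mem_map.mp hx
    obtain ⟨l, hl, rfl⟩ := List.getElem_of_mem hw
    have hlen : Nat.beq lcWords.length 72 = true := by decide +kernel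
    have hl72 : l < 72 := by rw [← Nat.eq_of_beq_eq_true hlen]; exact hl
    obtain ⟨t, ht, rfl⟩ : ∃ t < 3, j = [1, 2, 4].getD t 0 := by
      simp only [List.mem_cons, List.not_mem_nil, or_false] at hj
      rcases hj with rfl | rfl | rfl
      exacts [⟨0, by norm_num, rfl⟩, ⟨1, by norm_num, rfl⟩, ⟨2, by norm_num, rfl⟩]
    have hc := cand_ok t l ht hl72
    rw [show lcWords[l] = lcWords.getD l [] from (List.getD_eq_getElem _ _ hl).symm] at hR ⊢
    unfold candOK at hc
    cases h9 : Nat.beq (witness.getD (72 * t + l) (9, 0)).1 9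
    · rw [h9, cond_false] at hc
      simp only [Bool.and_eq_true, Nat.blt_eq, Bool.not_eq_true'] at hc
      obtain ⟨⟨⟨h3, hi⟩, hlt⟩, hne⟩ := hc
      refine absurd ?_ (word_ne_one hlt hi hne)
      have hmem : outRels.getD (witness.getD (72 * t + l) (9, 0)).1 ([], 0) ∈ outRels := by
        rw [List.getD_eq_getElem _ _ (show _ < outRels.length from h3)]
        exact List.getElem_mem _
      have h1 := hR _ hmem
      rw [show xEl = evW ev xWord from rfl, show bEl = evW ev bWord from rfl, ← evW_wpow, evalThree_sub,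
        ← evW_wpow] at h1
      exact h1
    · rw [h9, cond_true] at hc
      simp only [Bool.and_eq_true, Bool.or_eq_true] at hc
      obtain ⟨ht0, hc⟩ := hc
      obtain rfl := Nat.eq_of_beq_eq_true ht0
      rcases hc with ⟨-, hs⟩ | ⟨-, hs⟩
      · rw [sameW_spec hs]; exact List.mem_cons_self
      · rw [sameW_spec hs]; exact List.mem_cons_of_mem _ List.mem_cons_self

/-- The image of a letter under the outer automorphism. -/
noncomputable def imgAt (x : ℕ) : List ℕ := imgWords.getD x []

theorem img_sq_ok : ([1, 2, 3, 4, 5, 6].all (fun x => sameW (imgAt x ++ imgAt x) []) &&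
    sameW (imgAt 7 ++ imgAt 0) []) = true := by decide +kernel

/-- A part of the relators holds for the images. -/
noncomputable def relPart (k n : ℕ) : Bool :=
  ((ONCert.relWords.drop k).take n).all fun w => w.all (fun x => Nat.blt x 8) && sameW (w.flatMap imgAt) []

theorem img_rel0 : relPart 0 8 = true := by decide +kernel

theorem img_rel1 : relPart 8 8 = true := by decide +kernel

theorem img_rel2 : relPart 16 8 = true := by decide +kernel

theorem img_rel3 : relPart 24 8 = true := by decide +kernel

theorem img_rel_len : Nat.ble ONCert.relWords.length 32 = true := by decide +kernel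

theorem img_rel {w : List ℕ} (hw : w ∈ ONCert.relWords) :
    (∀ x ∈ w, x < 8) ∧ evW ev (w.flatMap imgAt) = 1 := by
  have key : ∀ k n, relPart k n = true → w ∈ (ONCert.relWords.drop k).take n →
      (∀ x ∈ w, x < 8) ∧ evW ev (w.flatMap imgAt) = 1 := fun k n h hm => by
    have := List.all_eq_true.mp h w hm
    simp only [Bool.and_eq_true, List.all_eq_true, Nat.blt_eq] at this
    exact ⟨this.1, (sameW_spec this.2).trans (evW_nil _)⟩
  obtain ⟨i, hi, rfl⟩ := List.getElem_of_mem hw
  have hlen := Nat.ble_eq.mp img_rel_len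
  have hmem : ∀ k n, k ≤ i → i < k + n → ONCert.relWords[i] ∈ (ONCert.relWords.drop k).take n := fun k n h1 h2 =>
    List.mem_iff_getElem.2 ⟨i - k, by simp only [List.length_take, List.length_drop]; omega,
      by simp only [List.getElem_take, List.getElem_drop, Nat.add_sub_cancel' h1]⟩
  rcases (show i < 8 ∨ (8 ≤ i ∧ i < 16) ∨ (16 ≤ i ∧ i < 24) ∨ (24 ≤ i ∧ i < 32) by omega) with h | h | h | h
  · exact key _ _ img_rel0 (hmem _ _ (Nat.zero_le _) (by omega))
  · exact key _ _ img_rel1 (hmem _ _ h.1 (by omega))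
  · exact key _ _ img_rel2 (hmem _ _ h.1 (by omega))
  · exact key _ _ img_rel3 (hmem _ _ h.1 (by omega))

theorem img_fix : (sameW (xWord.flatMap imgAt) xWord && sameW (bWord.flatMap imgAt) bWord &&
    sameW (cWord.flatMap imgAt) cTwo && !(sameW cWord cTwo) && cWord.all (fun x => Nat.blt x 8) &&
    xWord.all (fun x => Nat.blt x 8) && bWord.all (fun x => Nat.blt x 8) && cTwo.all (fun x => Nat.blt x 8)) = true := by
  decide +kernel

/-- The image of a generator. -/
noncomputable def sEl (g : Cfsg.Spor.ON.Gen) : Cfsg.Spor.ON := evW ev (imgAt (ONCosets.idxOf g))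

theorem ev_sEl {x : ℕ} (hx : x < 8) : letters.ev sEl x = evW ev (imgAt x) := by
  have h := img_sq_ok
  simp only [Bool.and_eq_true] at h
  have h7 := sameW_spec h.2
  rw [evW_append, evW_nil] at h7
  rw [Letters.ev, if_pos (show x < letters.A.eps from (show letters.A.eps = 8 from eps_eq).symm ▸ hx)]
  interval_cases x <;> first | rfl | exact (eq_inv_of_mul_eq_one_left h7).symm

theorem sEl_word : ∀ {w : List ℕ}, (∀ x ∈ w, x < 8) → evW (letters.ev sEl) w = evW ev (w.flatMap imgAt)
  | [], _ => rfl
  | x :: w, h => by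
    rw [evW_cons, List.flatMap_cons, evW_append, ev_sEl (h x List.mem_cons_self),
      sEl_word (w := w) fun y hy => h y (List.mem_cons_of_mem _ hy)]

theorem sEl_kills : ∀ r ∈ Cfsg.Spor.coxRelators Cfsg.Spor.ON.edges ∪ {r | r ∈ Cfsg.Spor.ON.extra},
    FreeGroup.lift sEl r = 1 := by
  have h := img_sq_ok
  simp only [Bool.and_eq_true, List.all_eq_true] at h
  obtain ⟨hsq, -⟩ := h
  have hw : ∀ w ∈ ONCert.relWords, evW (letters.ev sEl) w = 1 := by
    intro w hw
    obtain ⟨hlt, hs⟩ := img_rel hw
    rw [sEl_word hlt, hs]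
  refine Letters.kills ONCosets.letters_valid ONCosets.nodes_valid ONCosets.full (fun g hg => ?_)
    (fun w h => hw w (ONCosets.relWords_eq ▸ List.mem_append.2 (Or.inl h)))
    (fun w h => hw w (ONCosets.relWords_eq ▸ List.mem_append.2 (Or.inr h)))
  have hi : ONCosets.idxOf g ∈ [1, 2, 3, 4, 5, 6] := by
    revert hg; cases g <;> simp [letters, ONCosets.idxOf]
  have := sameW_spec (hsq _ hi)
  rwa [evW_append, evW_nil] at this

/-- The outer automorphism as a homomorphism. -/
noncomputable def sigma : Cfsg.Spor.ON →* Cfsg.Spor.ON := PresentedGroup.toGroup sEl_kills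

theorem sigma_letter {x : ℕ} (hx : x < 8) : sigma (ev x) = letters.ev sEl x := by
  show sigma (Letters.ev letters (fun g => PresentedGroup.of g) x) = _
  have h8 : x < letters.A.eps := (show letters.A.eps = 8 from eps_eq).symm ▸ hx
  rw [Letters.ev, if_pos h8, Letters.ev, if_pos h8]
  cases (letters.gen x).2
  · simp only [cond_false, map_inv]
    exact congrArg _ (PresentedGroup.toGroup.of _)
  · exact PresentedGroup.toGroup.of _

theorem sigma_word : ∀ {w : List ℕ}, (∀ x ∈ w, x < 8) → sigma (evW ev w) = evW ev (w.flatMap imgAt)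
  | [], _ => map_one _
  | x :: w, h => by
    rw [evW_cons, map_mul, List.flatMap_cons, evW_append, sigma_letter (h x List.mem_cons_self),
      ev_sEl (h x List.mem_cons_self), sigma_word (w := w) fun y hy => h y (List.mem_cons_of_mem _ hy)]

theorem sigma_gens : sigma xEl = xEl ∧ sigma bEl = bEl ∧ sigma cEl = cEl2 ∧ cEl ≠ cEl2 := by
  have h := img_fix
  simp only [Bool.and_eq_true, Bool.not_eq_true', List.all_eq_true, Nat.blt_eq] at h
  obtain ⟨⟨⟨⟨⟨⟨⟨hx, hb⟩, hc⟩, hne⟩, hcl⟩, hxl⟩, hbl⟩, hdl⟩ := h
  refine ⟨(sigma_word hxl).trans (sameW_spec hx), (sigma_word hbl).trans (sameW_spec hb),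
    (sigma_word hcl).trans (sameW_spec hc), fun he => ?_⟩
  have htrue : sameW cWord cTwo = true := by
    simp only [sameW, Bool.and_eq_true, List.all_eq_true, Nat.blt_eq]
    refine ⟨⟨hcl, hdl⟩, fun i hi => ?_⟩
    have hiN : i < ONCert.rep.N := by
      simp only [List.mem_cons, List.not_mem_nil, or_false] at hi
      rcases hi with rfl | rfl | rfl
      exacts [pts_lt.2.2, pts_lt.1, pts_lt.2.1]
    have h1 := phi_at (fun x hx => eps_eq ▸ hcl x hx) (⟨i, hiN⟩ : Pt)
    have h2 := phi_at (fun x hx => eps_eq ▸ hdl x hx) (⟨i, hiN⟩ : Pt)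
    rw [show evW ev cWord = evW ev cTwo from he] at h1
    exact Nat.beq_eq.mpr (h1.symm.trans h2)
  rw [htrue] at hne
  exact absurd hne (by decide)

theorem sigma_bijective : Function.Bijective sigma := by
  have := ONSimple.simple
  have : Finite Cfsg.Spor.ON := Nat.finite_of_card_ne_zero (by rw [ONOrder.card_eq]; norm_num)
  refine Finite.injective_iff_bijective.mp ((MonoidHom.ker_eq_bot_iff sigma).mp ?_)
  refine ((MonoidHom.normal_ker sigma).eq_bot_or_eq_top).resolve_right fun htop => ?_
  apply xEl_ne
  rw [← sigma_gens.1]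
  exact MonoidHom.mem_ker.mp (htop ▸ Subgroup.mem_top _)

theorem sigma_not_inner : MulEquiv.ofBijective sigma sigma_bijective ∉ Cfsg.Inn Cfsg.Spor.ON := by
  rintro ⟨g, hg⟩
  obtain ⟨hx, hb, hc, hne⟩ := sigma_gens
  have h : ∀ y, sigma y = g * y * g⁻¹ := fun y => (DFunLike.congr_fun hg y).symm
  obtain ⟨i, hi⟩ := hC_xEl g ((h xEl).symm.trans hx)
  have hgb : g * bEl = bEl * g := mul_inv_eq_iff_eq_mul.1 ((h bEl).symm.trans hb)
  have h12 : xEl ^ (12 * i) = xEl ^ i := by
    have h1 : bEl * xEl ^ i * bEl⁻¹ = xEl ^ (12 * i) := by rw [← conj_pow, conj_x, ← pow_mul]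
    rw [← h1, ← hi, ← hgb, mul_inv_cancel_right]
  have h19 : i % 19 = 0 := by
    have := pow_inj_mod.mp h12
    rw [orderOf_xEl] at this
    omega
  have hg1 : g = 1 := by rw [hi, ← pow_mod_orderOf, orderOf_xEl, h19, pow_zero]
  apply hne
  rw [← hc, h cEl, hg1, one_mul, inv_one, mul_one]

/-- The outer automorphism group has order two. -/
theorem card_out : Nat.card (Cfsg.Out Cfsg.Spor.ON) = 2 :=
  le_antisymm card_out_le_two (by
    have : Finite Cfsg.Spor.ON := Nat.finite_of_card_ne_zero (by rw [ONOrder.card_eq]; norm_num)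
    exact two_le_card_out _ sigma_not_inner)

end CfsgLib.ONOut
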