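import Cfsg.Agent.Lib.Presented.ONOrder
import Cfsg.Agent.Lib.ONOut.Base
import Cfsg.Agent.Lib.ONOut.SmallData

/-!
The subgroup of index 122760 of the presented group of O'Nan acts faithfully on 114 objects (the points and lines
of the plane over seven elements).
-/
set_option autoImplicit false
set_option maxRecDepth 20000

namespace CfsgLib.ONOut

open CfsgLib.Presented
open ONCosets (ev ev_one ev_inv rels_hold)

/-- The letters of the subgroup. -/
abbrev hl : List ℕ := [1, 2, 3, 4, 5, 6]

/-- The image of an object under a letter. -/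
noncomputable def qAt (x i : ℕ) : ℕ := Nat.mod (Nat.shiftRight (qTab.getD x 0) (Nat.mul 7 i)) 128

/-- The image of an object under a word. -/
noncomputable def qW (w : List ℕ) (i : ℕ) : ℕ :=
  List.rec (motive := fun _ => ℕ) i (fun x _ ih => Vec.force ih fun j => qAt x j) w

theorem qW_cons (x : ℕ) (w : List ℕ) (i : ℕ) : qW (x :: w) i = qAt x (qW w i) := by
  show (Vec.force (qW w i) fun j => qAt x j) = _
  rw [Vec.force_eq]

theorem q_ok : (hl.all fun x => (List.range 114).all fun i =>
    Nat.blt (qAt x i) 114 && Nat.beq (qAt x (qAt x i)) i) = true := by decide +kernel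

theorem qAt_spec {x i : ℕ} (hx : x ∈ hl) (hi : i < 114) : qAt x i < 114 ∧ qAt x (qAt x i) = i := by
  have h := List.all_eq_true.1 (List.all_eq_true.1 q_ok x hx) i (List.mem_range.2 hi)
  rw [Bool.and_eq_true, Nat.blt_eq] at h
  exact ⟨h.1, Nat.eq_of_beq_eq_true h.2⟩

/-- The permutation of a letter. -/
noncomputable def qP (x : ℕ) : Equiv.Perm (Fin 114) :=
  if hx : x ∈ hl then
    (Function.Involutive.toPerm (fun i => ⟨qAt x i, (qAt_spec hx i.2).1⟩)
      fun i => Fin.ext (qAt_spec hx i.2).2)
  else 1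

theorem qW_eq : ∀ {w : List ℕ}, (∀ x ∈ w, x ∈ hl) → ∀ i : Fin 114, (evW qP w i : ℕ) = qW w i
  | [], _, _ => rfl
  | x :: w, h, i => by
    rw [evW_cons, Equiv.Perm.mul_apply, qW_cons,
      ← qW_eq (w := w) (fun y hy => h y (List.mem_cons_of_mem _ hy)) i, qP, dif_pos (h x List.mem_cons_self)]
    rfl

/-- The letters read in both groups. -/
noncomputable def evQ (x : ℕ) : Equiv.Perm (Fin 114) × Cfsg.Spor.ON := if x ∈ hl then (qP x, ev x) else 1

theorem evW_evQ : ∀ {w : List ℕ}, (∀ x ∈ w, x ∈ hl) → evW evQ w = (evW qP w, evW ev w)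
  | [], _ => rfl
  | x :: w, h => by
    rw [evW_cons, evW_evQ (w := w) (fun y hy => h y (List.mem_cons_of_mem _ hy)), evQ,
      if_pos (h x List.mem_cons_self)]
    rfl

/-- Relators in the six letters. -/
noncomputable def known : List (List ℕ) := ONCert.relWords.filter fun w => w.all fun x => hl.contains x

theorem known_ok : (known.all fun w => w.all (fun x => hl.contains x) &&
    (List.range 114).all fun i => Nat.beq (qW w i) i) = true := by decide +kernel

theorem known_hold : ∀ w ∈ known, evW evQ w = 1 := by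
  intro w hw
  have h := List.all_eq_true.1 known_ok w hw
  simp only [Bool.and_eq_true, List.all_eq_true, List.contains_iff_mem, List.mem_range] at h
  rw [evW_evQ h.1]
  refine Prod.ext (Equiv.ext fun i => Fin.ext ?_) (rels_hold w (List.mem_of_mem_filter hw))
  show (evW qP w i : ℕ) = i
  rw [qW_eq h.1, Nat.eq_of_beq_eq_true (h.2 i i.2)]

theorem evQ_one : evQ ONCert.alphabet.eps = 1 := by
  have h : (hl.contains ONCert.alphabet.eps) = false := by decide +kernel
  rw [evQ, if_neg]
  intro hm
  rw [List.contains_iff_mem.2 hm] at h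
  exact absurd h (by decide)

theorem evQ_inv : ∀ x, x < ONCert.alphabet.eps → evQ (ONCert.alphabet.invl x) * evQ x = 1 := by
  intro x hx
  have h : ((List.range ONCert.alphabet.eps).all fun x =>
      if hl.contains x then Nat.beq (ONCert.alphabet.invl x) x
      else !(hl.contains (ONCert.alphabet.invl x))) = true := by decide +kernel
  have := List.all_eq_true.1 h x (List.mem_range.2 hx)
  by_cases hm : x ∈ hl
  · rw [if_pos (List.contains_iff_mem.2 hm)] at this
    have hi := ev_inv x hx
    rw [Nat.eq_of_beq_eq_true this] at hi ⊢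
    rw [evQ, if_pos hm]
    refine Prod.ext (Equiv.ext fun i => ?_) hi
    show qP x (qP x i) = i
    rw [qP, dif_pos hm]
    exact Fin.ext (qAt_spec hm i.2).2
  · rw [if_neg (by rwa [List.contains_iff_mem])] at this
    have hm' : ONCert.alphabet.invl x ∉ hl := by simpa [List.contains_iff_mem] using this
    rw [evQ, evQ, if_neg hm, if_neg hm', one_mul]

theorem indexA : (genBy evQ [1, 2, 3, 5, 6]).relIndex (genBy evQ hl) ≠ 0 ∧
    (genBy evQ [1, 2, 3, 5, 6]).relIndex (genBy evQ hl) ≤ ONACert.cert.R.N :=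
  relIndex_le_of_subCert (A := ONCert.alphabet) (emb := hl) ONACert.cert_ok evQ_one evQ_inv (by decide +kernel)
    (by decide +kernel) (by decide +kernel) (rels_of_check known_hold (by decide +kernel))
    (subs_of_check (seeds := []) (by simp) (by decide +kernel))

theorem indexB : (genBy evQ []).relIndex (genBy evQ [1, 2, 3, 5, 6]) ≠ 0 ∧
    (genBy evQ []).relIndex (genBy evQ [1, 2, 3, 5, 6]) ≤ ONBCert.cert.R.N :=
  relIndex_le_of_subCert (A := ONCert.alphabet) (emb := [1, 2, 3, 5, 6]) ONBCert.cert_ok evQ_one evQ_inv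
    (by decide +kernel) (by decide +kernel) (by decide +kernel) (rels_of_check known_hold (by decide +kernel))
    (subs_of_check (seeds := []) (by simp) (by decide +kernel))

/-- The graph of the action. -/
noncomputable def graphQ : Subgroup (Equiv.Perm (Fin 114) × Cfsg.Spor.ON) := genBy evQ hl

theorem card_graph_le : Nat.card graphQ ≠ 0 ∧ Nat.card graphQ ≤ 3753792 :=
  card_le_mul (genBy_mono evQ (by decide)) (card_le_mul (genBy_mono evQ (by decide)) (card_bot_le evQ) indexB) indexA

theorem snd_graph : graphQ.map (MonoidHom.snd _ _) = ONCosets.H := by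
  rw [ONOrder.H_eq_genBy]
  show (Subgroup.closure _).map _ = Subgroup.closure _
  rw [MonoidHom.map_closure, Set.image_image]
  exact congrArg _ (Set.image_congr fun x hx => by
    show (evQ x).2 = ev x
    rw [evQ, if_pos (show x ∈ hl from hx)])

theorem word_mem_graph {w : List ℕ} (hw : ∀ x ∈ w, x ∈ hl) : (evW qP w, evW ev w) ∈ graphQ := by
  rw [← evW_evQ hw]
  refine list_prod_mem ?_
  intro g hg
  obtain ⟨x, hx, rfl⟩ := List.mem_map.1 hg
  exact mem_genBy evQ (hw x hx)

theorem exists_rho {h : Cfsg.Spor.ON} (hh : h ∈ ONCosets.H) : ∃ p, (p, h) ∈ graphQ := by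
  rw [← snd_graph] at hh
  obtain ⟨⟨p, g⟩, hp, rfl⟩ := hh
  exact ⟨p, hp⟩

theorem graph_unique {p q : Equiv.Perm (Fin 114)} {h : Cfsg.Spor.ON} (hp : (p, h) ∈ graphQ)
    (hq : (q, h) ∈ graphQ) : p = q := by
  have : Finite graphQ := Nat.finite_of_card_ne_zero card_graph_le.1
  have hs : Function.Surjective (fun g : graphQ =>
      (⟨g.1.2, snd_graph ▸ ⟨g.1, g.2, rfl⟩⟩ : ONCosets.H)) := by
    rintro ⟨h, hh⟩
    obtain ⟨p, hp⟩ := exists_rho hh
    exact ⟨⟨_, hp⟩, rfl⟩
  have hb := hs.bijective_of_nat_card_le (ONOrder.card_H ▸ card_graph_le.2)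
  exact congrArg (fun g : graphQ => g.1.1) (hb.1 (a₁ := ⟨_, hp⟩) (a₂ := ⟨_, hq⟩) rfl)

theorem eq_one_of_fst {A B : Type*} [Group A] [Group B] (S : Subgroup (A × B)) [Finite S]
    (hle : Nat.card S ≤ Nat.card (S.map (MonoidHom.fst A B))) {h : B} (hp : ((1 : A), h) ∈ S) : h = 1 := by
  have hb := ((MonoidHom.fst A B).subgroupMap_surjective S).bijective_of_nat_card_le hle
  have he : (⟨_, hp⟩ : S) = 1 := hb.1 (Subtype.ext rfl)
  exact congrArg (fun g : S => g.1.2) he

/-- The checks of a base on the objects. -/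
noncomputable def frameOK (L : List (ℕ × List (List ℕ))) : Bool :=
  L.all (fun e => Nat.blt e.1 114 && e.2.all (fun w => w.all fun x => hl.contains x) &&
    decide ((e.2.map fun w => qW w e.1).Nodup)) &&
  decide (L.Pairwise fun a b => ∀ w ∈ b.2, qW w a.1 = a.1) &&
  Nat.beq (L.map fun e => e.2.length).prod 3753792

theorem frameX_ok : frameOK frameX = true := by decide +kernel
theorem frameB_ok : frameOK frameB = true := by decide +kernel

theorem eq_one_of_frame {L : List (ℕ × List (List ℕ))} (hL : frameOK L = true) {p : Equiv.Perm (Fin 114)}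
    {h : Cfsg.Spor.ON} (hp : (p, h) ∈ graphQ)
    (hfix : ∀ e ∈ L, ∀ i : Fin 114, (i : ℕ) = e.1 → p i = i) : p = 1 ∧ h = 1 := by
  have : Finite graphQ := Nat.finite_of_card_ne_zero card_graph_le.1
  simp only [frameOK, Bool.and_eq_true, List.all_eq_true, decide_eq_true_eq, Nat.blt_eq,
    List.contains_iff_mem] at hL
  obtain ⟨⟨hall, hpw⟩, hprod⟩ := hL
  set K : Subgroup (Equiv.Perm (Fin 114)) := graphQ.map (MonoidHom.fst _ _) with hK
  let mk : ℕ × List (List ℕ) → Fin 114 × List (Equiv.Perm (Fin 114)) := fun e =>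
    (⟨e.1 % 114, Nat.mod_lt _ (by norm_num)⟩, e.2.map (evW qP))
  have hmk : ∀ e ∈ L, ((mk e).1 : ℕ) = e.1 := fun e he => Nat.mod_eq_of_lt (hall e he).1.1
  have hcard : Nat.card K ≤ 3753792 := by
    refine le_trans ?_ card_graph_le.2
    exact Nat.card_le_card_of_surjective _ ((MonoidHom.fst _ _).subgroupMap_surjective graphQ)
  have hb := prod_mul_card_fixer_le (L.map mk) K ?_ ?_ ?_
  · have hprod' : ((L.map mk).map fun e => e.2.length).prod = 3753792 := by
      rw [List.map_map, ← Nat.eq_of_beq_eq_true hprod]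
      congr 1
      exact List.map_congr_left fun e _ => by simp [mk]
    rw [hprod'] at hb
    set F : Subgroup (Equiv.Perm (Fin 114)) := K ⊓ fixer ((L.map mk).map Prod.fst) with hF
    have hF1 : Nat.card F = 1 := by
      have : 0 < Nat.card F := Nat.card_pos
      nlinarith
    have hp1 : p = 1 := by
      have hmem : p ∈ F := by
        refine ⟨⟨_, hp, rfl⟩, fun q hq => ?_⟩
        simp only [List.map_map, List.mem_map, Function.comp] at hq
        obtain ⟨e, he, rfl⟩ := hq
        exact hfix e he _ (hmk e he)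
      rw [Subgroup.card_eq_one.1 hF1] at hmem
      exact Subgroup.mem_bot.1 hmem
    refine ⟨hp1, ?_⟩
    have hge : 3753792 ≤ Nat.card K := le_trans (Nat.le_mul_of_pos_right _ Nat.card_pos) hb
    rw [hp1] at hp
    exact eq_one_of_fst graphQ (card_graph_le.2.trans hge) hp
  · intro e he g hg
    obtain ⟨e, he', rfl⟩ := List.mem_map.1 he
    obtain ⟨w, hw, rfl⟩ := List.mem_map.1 hg
    exact ⟨_, word_mem_graph ((hall e he').1.2 w hw), rfl⟩
  · rw [List.pairwise_map]
    refine hpw.imp_of_mem (fun {a b} ha hb h g hg => ?_)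
    obtain ⟨w, hw, rfl⟩ := List.mem_map.1 hg
    apply Fin.ext
    rw [qW_eq ((hall b hb).1.2 w hw), hmk a ha]
    exact h w hw
  · intro e he
    obtain ⟨e, he', rfl⟩ := List.mem_map.1 he
    have hnd := (hall e he').2
    show ((e.2.map (evW qP)).map fun g => g (mk e).1).Nodup
    rw [List.map_map]
    refine List.Nodup.of_map (fun i : Fin 114 => (i : ℕ)) ?_
    rw [List.map_map]
    refine (List.map_congr_left ?_).symm ▸ hnd
    intro w hw
    show ((evW qP w (mk e).1 : Fin 114) : ℕ) = qW w e.1
    rw [qW_eq ((hall e he').1.2 w hw), hmk e he']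

/-- The incidence relation. -/
noncomputable def incAt (i j : ℕ) : Bool := (incTab.getD i 0).testBit j

theorem inc_ok : (hl.all fun x => (List.range 114).all fun i => (List.range 114).all fun j =>
    incAt (qAt x i) (qAt x j) == incAt i j) = true := by decide +kernel

theorem inc_graph {p : Equiv.Perm (Fin 114)} {h : Cfsg.Spor.ON} (hp : (p, h) ∈ graphQ) (i j : Fin 114) :
    incAt (p i) (p j) = incAt i j := by
  let P : Subgroup (Equiv.Perm (Fin 114) × Cfsg.Spor.ON) :=
    { carrier := {g | ∀ i j : Fin 114, incAt (g.1 i) (g.1 j) = incAt i j}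
      one_mem' := fun _ _ => rfl
      mul_mem' := fun {a b} ha hb i j => by
        show incAt (a.1 (b.1 i)) (a.1 (b.1 j)) = _
        rw [ha, hb]
      inv_mem' := fun {a} ha i j => by
        show incAt (a.1.symm i) (a.1.symm j) = _
        have := ha (a.1.symm i) (a.1.symm j)
        rw [Equiv.apply_symm_apply, Equiv.apply_symm_apply] at this
        exact this.symm }
  have hle : graphQ ≤ P := by
    rw [show graphQ = Subgroup.closure (evQ '' {x | x ∈ hl}) from rfl, Subgroup.closure_le]
    rintro _ ⟨x, hx, rfl⟩ i j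
    have := List.all_eq_true.1 (List.all_eq_true.1 (List.all_eq_true.1 inc_ok x hx) i (List.mem_range.2 i.2)) j
      (List.mem_range.2 j.2)
    rw [evQ, if_pos (show x ∈ hl from hx)]
    show incAt (qP x i) (qP x j) = _
    rw [qP, dif_pos (show x ∈ hl from hx)]
    exact beq_iff_eq.1 this
  exact hle hp i j

end CfsgLib.ONOut
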